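import Mathlib
import Cfsg.Agent.Classical.Misc.PSLFourTwo

/-! The Klein correspondence in coordinates with standard dot product, when `-1` is a square. -/

set_option autoImplicit false
set_option linter.unusedSimpArgs false
set_option linter.unusedSectionVars false
set_option linter.unusedVariables false
set_option linter.style.haveILetI false
set_option linter.flexible false

namespace Cfsg.Lib.Classical.KleinSix

open Matrix
open scoped MatrixGroups

universe u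

variable {F : Type u} [Field F]

local notation "M4" => Matrix (Fin 4) (Fin 4) F
local notation "M6" => Matrix (Fin 6) (Fin 6) F
local notation "V6" => Fin 6 → F

/-- A square root of `-1` in odd characteristic. -/
structure Kl (F : Type u) [Field F] where
  i : F
  hi : i * i = -1
  two : (2 : F) ≠ 0

/-- The standard vectors. -/
def e (k : Fin 6) : Fin 6 → F := Pi.single k 1

theorem dot_e (v : V6) (k : Fin 6) : v ⬝ᵥ e k = v k := by simp [e]

theorem e_dot (v : V6) (k : Fin 6) : e k ⬝ᵥ v = v k := by simp [e]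

/-- The reflection in a vector. -/
def refl (u : V6) : M6 := 1 - (2 / (u ⬝ᵥ u)) • Matrix.vecMulVec u u

theorem refl_mulVec (u z : V6) : refl u *ᵥ z = z - (2 * (u ⬝ᵥ z) / (u ⬝ᵥ u)) • u := by
  rw [refl, Matrix.sub_mulVec, Matrix.one_mulVec, Matrix.smul_mulVec, Matrix.vecMulVec_mulVec]
  congr 1
  funext k
  simp only [Pi.smul_apply, op_smul_eq_smul, smul_eq_mul]
  ring

theorem refl_self {u : V6} (h : u ⬝ᵥ u ≠ 0) : refl u *ᵥ u = -u := by
  rw [refl_mulVec, mul_div_assoc, div_self h, mul_one, two_smul]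
  abel

theorem refl_fix {u z : V6} (h : u ⬝ᵥ z = 0) : refl u *ᵥ z = z := by
  rw [refl_mulVec, h, mul_zero, zero_div, zero_smul, sub_zero]

theorem refl_sq {u : V6} (h : u ⬝ᵥ u ≠ 0) : refl u * refl u = 1 := by
  refine Matrix.toLin'.injective (LinearMap.ext fun z => ?_)
  simp only [Matrix.toLin'_apply, Matrix.toLin'_mul, LinearMap.comp_apply, Matrix.one_mulVec]
  rw [refl_mulVec u z, Matrix.mulVec_sub, Matrix.mulVec_smul, refl_self h, refl_mulVec u z, smul_neg]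
  abel

theorem refl_transpose (u : V6) : (refl u)ᵀ = refl u := by
  ext j k
  simp [refl, Matrix.vecMulVec_apply, Matrix.one_apply, eq_comm, mul_comm, mul_left_comm]

theorem det_refl {u : V6} (h : u ⬝ᵥ u ≠ 0) : (refl u).det = -1 := by
  have e1 : refl u = 1 + Matrix.replicateCol Unit ((-(2 / (u ⬝ᵥ u))) • u) * Matrix.replicateRow Unit u := by
    ext j k
    simp [refl, Matrix.vecMulVec_apply, Matrix.mul_apply]
    ring
  rw [e1, Matrix.det_one_add_replicateCol_mul_replicateRow, dotProduct_smul, smul_eq_mul, neg_mul,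
    div_mul_cancel₀ _ h]
  norm_num

theorem refl_smul {c : F} (hc : c ≠ 0) (u : V6) : refl (c • u) = refl u := by
  ext j k
  simp only [refl, Matrix.sub_apply, Matrix.smul_apply, Matrix.vecMulVec_apply, smul_dotProduct, dotProduct_smul,
    Pi.smul_apply, smul_eq_mul]
  by_cases h : u ⬝ᵥ u = 0
  · simp [h]
  · field_simp

namespace Kl

variable (K : Kl F)

theorem i_ne : K.i ≠ 0 := fun h => by have := K.hi; rw [h] at this; simp at this

/-- Alternating matrices from six coordinates. -/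
def Xm : V6 →ₗ[F] M4 where
  toFun c := !![0, c 0 + K.i * c 1, c 2 + K.i * c 3, c 4 + K.i * c 5;
    -(c 0 + K.i * c 1), 0, c 4 - K.i * c 5, -(c 2 - K.i * c 3);
    -(c 2 + K.i * c 3), -(c 4 - K.i * c 5), 0, c 0 - K.i * c 1;
    -(c 4 + K.i * c 5), c 2 - K.i * c 3, -(c 0 - K.i * c 1), 0]
  map_add' c d := by
    ext a b; fin_cases a <;> fin_cases b <;> simp <;> ring
  map_smul' r c := by
    ext a b; fin_cases a <;> fin_cases b <;> simp <;> ring

/-- The coordinates of a matrix. -/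
def co : M4 →ₗ[F] V6 where
  toFun M := ![(M 0 1 + M 2 3) / 2, -K.i * (M 0 1 - M 2 3) / 2, (M 0 2 - M 1 3) / 2,
    -K.i * (M 0 2 + M 1 3) / 2, (M 0 3 + M 1 2) / 2, -K.i * (M 0 3 - M 1 2) / 2]
  map_add' M N := by funext k; fin_cases k <;> simp <;> ring
  map_smul' r M := by funext k; fin_cases k <;> simp <;> ring

theorem co_Xm (c : V6) : K.co (K.Xm c) = c := by
  have h2 := K.two
  have hi := K.hi
  funext k
  fin_cases k <;> simp [co, Xm] <;> field_simp <;> grind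

theorem Xm_inj : Function.Injective K.Xm := Function.LeftInverse.injective K.co_Xm

theorem Xm_transpose (c : V6) : (K.Xm c)ᵀ = -K.Xm c := by
  ext a b; fin_cases a <;> fin_cases b <;> simp [Xm]

theorem Xm_co {M : M4} (h : Mᵀ = -M) : K.Xm (K.co M) = M := by
  have h2 := K.two
  have hi := K.hi
  have hh : ∀ a b, M b a = -M a b := fun a b => by
    have := congrFun (congrFun h a) b
    simpa using this
  have hd : ∀ a, M a a = 0 := fun a => (mul_eq_zero.mp (show (2 : F) * M a a = 0 by linear_combination hh a a)).resolve_left h2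
  ext a b
  fin_cases a <;> fin_cases b <;>
    simp [Xm, co, hd, hh 0 1, hh 0 2, hh 0 3, hh 1 2, hh 1 3, hh 2 3] <;> field_simp <;> grind

/-- Conjugate coordinates. -/
def flip (c : V6) : V6 := ![c 0, -c 1, c 2, -c 3, c 4, -c 5]

theorem flip_flip (c : V6) : flip (flip c) = c := by funext k; fin_cases k <;> simp [flip]

theorem flip_dot (c d : V6) : flip c ⬝ᵥ flip d = c ⬝ᵥ d := by
  simp [flip, dotProduct, Fin.sum_univ_succ]

/-- The dual matrix. -/
def Xt (c : V6) : M4 := K.Xm (flip c)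

theorem Xt_add (c d : V6) : K.Xt (c + d) = K.Xt c + K.Xt d := by
  rw [Xt, Xt, Xt, ← map_add]; congr 1; funext k; fin_cases k <;> simp [flip] <;> ring

theorem Xt_smul (r : F) (c : V6) : K.Xt (r • c) = r • K.Xt c := by
  rw [Xt, Xt, ← map_smul]; congr 1; funext k; fin_cases k <;> simp [flip]

theorem Xt_sub (c d : V6) : K.Xt (c - d) = K.Xt c - K.Xt d := by
  rw [sub_eq_add_neg, ← neg_one_smul F d, K.Xt_add, K.Xt_smul, neg_one_smul, ← sub_eq_add_neg]

set_option maxHeartbeats 1600000 in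
theorem Xm_Xt (u v : V6) : K.Xm u * K.Xt v + K.Xm v * K.Xt u = (-2 * (u ⬝ᵥ v)) • (1 : M4) := by
  have hi := K.hi
  ext a b
  fin_cases a <;> fin_cases b <;>
    simp [Xt, flip, Xm, Matrix.mul_apply, dotProduct, Fin.sum_univ_succ, Matrix.one_apply] <;> grind

theorem Xt_Xm (u v : V6) : K.Xt u * K.Xm v + K.Xt v * K.Xm u = (-2 * (u ⬝ᵥ v)) • (1 : M4) := by
  have h := K.Xm_Xt (flip u) (flip v)
  simpa [Xt, flip_flip, flip_dot] using h

theorem Xm_Xt_self (u : V6) : K.Xm u * K.Xt u = (-(u ⬝ᵥ u)) • (1 : M4) := by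
  have h := K.Xm_Xt u u
  rw [← two_smul F, neg_mul, ← mul_neg, mul_smul] at h
  exact smul_right_injective M4 K.two h

theorem Xt_Xm_self (u : V6) : K.Xt u * K.Xm u = (-(u ⬝ᵥ u)) • (1 : M4) := by
  have h := K.Xt_Xm u u
  rw [← two_smul F, neg_mul, ← mul_neg, mul_smul] at h
  exact smul_right_injective M4 K.two h

/-- Twisting a coordinate matrix. -/
theorem Xm_Xt_Xm (u z : V6) :
    K.Xm u * K.Xt z * K.Xm u = (-2 * (u ⬝ᵥ z)) • K.Xm u + (u ⬝ᵥ u) • K.Xm z := by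
  rw [eq_sub_of_add_eq (K.Xm_Xt u z), sub_mul, smul_mul_assoc, one_mul, mul_assoc, K.Xt_Xm_self, mul_smul_comm,
    mul_one, neg_smul (u ⬝ᵥ u), sub_neg_eq_add]

theorem Xt_Xm_Xt (u z : V6) :
    K.Xt u * K.Xm z * K.Xt u = (-2 * (u ⬝ᵥ z)) • K.Xt u + (u ⬝ᵥ u) • K.Xt z := by
  have h := K.Xm_Xt_Xm (flip u) (flip z)
  simpa [Xt, flip_flip, flip_dot] using h

/-! ### The action -/

/-- The exterior square in these coordinates. -/
def act (A : M4) : M6 :=
  LinearMap.toMatrix' (K.co ∘ₗ (LinearMap.mulRight F Aᵀ) ∘ₗ (LinearMap.mulLeft F A) ∘ₗ K.Xm)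

theorem act_mulVec (A : M4) (c : V6) : K.act A *ᵥ c = K.co (A * K.Xm c * Aᵀ) := by
  rw [act, LinearMap.toMatrix'_mulVec]; rfl

theorem Xm_act (A : M4) (c : V6) : K.Xm (K.act A *ᵥ c) = A * K.Xm c * Aᵀ := by
  rw [K.act_mulVec, K.Xm_co]
  rw [Matrix.transpose_mul, Matrix.transpose_mul, Matrix.transpose_transpose, K.Xm_transpose, ← mul_assoc]
  simp

theorem act_ext {A : M4} {B : M6} (h : ∀ c, K.Xm (B *ᵥ c) = A * K.Xm c * Aᵀ) : K.act A = B :=
  Matrix.toLin'.injective (LinearMap.ext fun c => K.Xm_inj (by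
    rw [Matrix.toLin'_apply, Matrix.toLin'_apply, K.Xm_act, h]))

theorem act_mul (A B : M4) : K.act (A * B) = K.act A * K.act B :=
  K.act_ext fun c => by
    rw [← Matrix.mulVec_mulVec, K.Xm_act, K.Xm_act, Matrix.transpose_mul]; simp only [mul_assoc]

theorem act_one : K.act (1 : M4) = 1 := K.act_ext fun c => by simp

theorem act_smul (r : F) (A : M4) : K.act (r • A) = (r * r) • K.act A :=
  K.act_ext fun c => by
    rw [Matrix.smul_mulVec, map_smul, K.Xm_act, Matrix.transpose_smul, smul_mul_assoc, smul_mul_assoc, mul_smul_comm,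
      smul_smul]

/-- The action as a monoid homomorphism. -/
def actHom : M4 →* M6 where
  toFun := K.act
  map_one' := K.act_one
  map_mul' := K.act_mul

/-- The action on invertible matrices. -/
def actU : GL (Fin 4) F →* GL (Fin 6) F := Units.map K.actHom

theorem actU_val (g : GL (Fin 4) F) : ((K.actU g : GL (Fin 6) F) : M6) = K.act (g : M4) := rfl

/-- The Pfaffian. -/
def pf (M : M4) : F := M 0 1 * M 2 3 - M 0 2 * M 1 3 + M 0 3 * M 1 2

theorem pf_Xm (c : V6) : pf (K.Xm c) = c ⬝ᵥ c := by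
  have hi := K.hi
  simp [pf, Xm, dotProduct, Fin.sum_univ_succ]
  grind

theorem pf_conj (A : M4) (a b c d p q : F) :
    pf (A * !![0, a, b, c; -a, 0, d, p; -b, -d, 0, q; -c, -p, -q, 0] * Aᵀ) = A.det * (a * q - b * p + c * d) := by
  rw [PSLFourTwo.det_four]
  simp [pf, PSLFourTwo.minor, Matrix.mul_apply, Fin.sum_univ_succ]
  ring

theorem pf_conj_Xm (A : M4) (c : V6) : pf (A * K.Xm c * Aᵀ) = A.det * pf (K.Xm c) := by
  have h := pf_conj A (c 0 + K.i * c 1) (c 2 + K.i * c 3) (c 4 + K.i * c 5) (c 4 - K.i * c 5)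
    (-(c 2 - K.i * c 3)) (c 0 - K.i * c 1)
  rw [show K.Xm c = !![0, c 0 + K.i * c 1, c 2 + K.i * c 3, c 4 + K.i * c 5;
      -(c 0 + K.i * c 1), 0, c 4 - K.i * c 5, -(c 2 - K.i * c 3);
      -(c 2 + K.i * c 3), -(c 4 - K.i * c 5), 0, c 0 - K.i * c 1;
      -(c 4 + K.i * c 5), -(-(c 2 - K.i * c 3)), -(c 0 - K.i * c 1), 0] by rw [neg_neg]; rfl]
  simpa [pf] using h

theorem act_dot {A : M4} (hA : A.det = 1) (c d : V6) : (K.act A *ᵥ c) ⬝ᵥ (K.act A *ᵥ d) = c ⬝ᵥ d := by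
  have hq : ∀ z, (K.act A *ᵥ z) ⬝ᵥ (K.act A *ᵥ z) = z ⬝ᵥ z := fun z => by
    rw [← K.pf_Xm, K.Xm_act, K.pf_conj_Xm, hA, one_mul, K.pf_Xm]
  have h := hq (c + d)
  rw [Matrix.mulVec_add] at h
  simp only [add_dotProduct, dotProduct_add, hq c, hq d, dotProduct_comm (K.act A *ᵥ d), dotProduct_comm d] at h
  exact mul_left_cancel₀ K.two (by linear_combination h)

theorem act_orth {A : M4} (hA : A.det = 1) : (K.act A)ᵀ * K.act A = 1 := by
  ext j k
  have h := K.act_dot hA (e j) (e k)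
  simpa [e, Matrix.mulVec_single, dotProduct, Matrix.mul_apply, Matrix.one_apply, Pi.single_apply, eq_comm] using h

theorem act_orth' {A : M4} (hA : A.det = 1) : K.act A * (K.act A)ᵀ = 1 :=
  mul_eq_one_comm.mp (K.act_orth hA)

/-! ### Products of two reflections -/

/-- The matrix over a pair of vectors. -/
def Lm (u v : V6) : M4 := (-(u ⬝ᵥ u)⁻¹) • (K.Xm u * K.Xt v)

theorem det_Xm (c : V6) : (K.Xm c).det = (c ⬝ᵥ c) * (c ⬝ᵥ c) := by
  have hi := K.hi
  rw [PSLFourTwo.det_four]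
  simp [PSLFourTwo.minor, Xm, dotProduct, Fin.sum_univ_succ]
  grind

theorem det_Lm {u v : V6} (h : u ⬝ᵥ u = v ⬝ᵥ v) (h0 : u ⬝ᵥ u ≠ 0) : (K.Lm u v).det = 1 := by
  rw [Lm, Matrix.det_smul, Matrix.det_mul, Xt, K.det_Xm, K.det_Xm, flip_dot, ← h, Fintype.card_fin]
  field_simp

open scoped _root_.Classical in
/-- The element over a pair of vectors of one norm. -/
noncomputable def L (u v : V6) : GL (Fin 4) F :=
  if h : u ⬝ᵥ u = v ⬝ᵥ v ∧ u ⬝ᵥ u ≠ 0 then
    Matrix.GeneralLinearGroup.mkOfDetNeZero (K.Lm u v) (by rw [K.det_Lm h.1 h.2]; exact one_ne_zero)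
  else 1

theorem L_val {u v : V6} (h : u ⬝ᵥ u = v ⬝ᵥ v) (h0 : u ⬝ᵥ u ≠ 0) : ((K.L u v : GL (Fin 4) F) : M4) = K.Lm u v := by
  rw [L, dif_pos ⟨h, h0⟩]; rfl

theorem L_det (u v : V6) : ((K.L u v : GL (Fin 4) F) : M4).det = 1 := by
  by_cases h : u ⬝ᵥ u = v ⬝ᵥ v ∧ u ⬝ᵥ u ≠ 0
  · rw [K.L_val h.1 h.2, K.det_Lm h.1 h.2]
  · rw [L, dif_neg h, Units.val_one, Matrix.det_one]

theorem act_Lm {u v : V6} (h : u ⬝ᵥ u = v ⬝ᵥ v) (h0 : u ⬝ᵥ u ≠ 0) : K.act (K.Lm u v) = refl u * refl v := by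
  refine K.act_ext fun z => ?_
  set q := u ⬝ᵥ u with hq
  have e1 : ∀ w, q • K.Xm (refl u *ᵥ w) = K.Xm u * K.Xt w * K.Xm u := fun w => by
    rw [K.Xm_Xt_Xm, refl_mulVec, map_sub, map_smul, smul_sub, smul_smul, ← hq, mul_div_cancel₀ _ h0, neg_mul,
      neg_smul]
    abel
  have e2 : q • K.Xt (refl v *ᵥ z) = K.Xt v * K.Xm z * K.Xt v := by
    rw [K.Xt_Xm_Xt, refl_mulVec, K.Xt_sub, K.Xt_smul, smul_sub, smul_smul, ← h, mul_div_cancel₀ _ h0, neg_mul,
      neg_smul]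
    abel
  rw [← Matrix.mulVec_mulVec, Lm, ← hq, Matrix.transpose_smul, Matrix.transpose_mul, Xt, K.Xm_transpose,
    K.Xm_transpose, neg_mul_neg, smul_mul_assoc, smul_mul_assoc, mul_smul_comm, smul_smul]
  have e3 : K.Xm u * K.Xm (flip v) * K.Xm z * (K.Xm (flip v) * K.Xm u) = (q * q) • K.Xm (refl u *ᵥ (refl v *ᵥ z)) := by
    calc K.Xm u * K.Xm (flip v) * K.Xm z * (K.Xm (flip v) * K.Xm u)
        = K.Xm u * (K.Xt v * K.Xm z * K.Xt v) * K.Xm u := by simp only [Xt, mul_assoc]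
      _ = q • (K.Xm u * K.Xt (refl v *ᵥ z) * K.Xm u) := by rw [← e2, mul_smul_comm, smul_mul_assoc]
      _ = _ := by rw [← e1, smul_smul]
  rw [e3, smul_smul, show -q⁻¹ * -q⁻¹ * (q * q) = 1 by field_simp, one_smul]

theorem act_L {u v : V6} (h : u ⬝ᵥ u = v ⬝ᵥ v) (h0 : u ⬝ᵥ u ≠ 0) :
    K.act (K.L u v : GL (Fin 4) F) = refl u * refl v := by rw [K.L_val h h0, K.act_Lm h h0]

theorem L_mul {u v w : V6} (h : u ⬝ᵥ u = v ⬝ᵥ v) (h' : v ⬝ᵥ v = w ⬝ᵥ w) (h0 : u ⬝ᵥ u ≠ 0) :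
    K.L u v * K.L v w = K.L u w := by
  refine Units.ext ?_
  rw [Units.val_mul, K.L_val h h0, K.L_val h' (h ▸ h0), K.L_val (h.trans h') h0, Lm, Lm, Lm, smul_mul_smul_comm,
    ← h, mul_assoc, ← mul_assoc (K.Xt v) (K.Xm v), K.Xt_Xm_self, smul_mul_assoc, one_mul, mul_smul_comm, smul_smul, ← h]
  congr 1
  field_simp

theorem L_self {u : V6} (h0 : u ⬝ᵥ u ≠ 0) : K.L u u = 1 := by
  refine Units.ext ?_
  rw [K.L_val rfl h0, Lm, K.Xm_Xt_self, smul_smul, neg_mul_neg, inv_mul_cancel₀ h0, one_smul, Units.val_one]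

theorem L_inv {u v : V6} (h : u ⬝ᵥ u = v ⬝ᵥ v) (h0 : u ⬝ᵥ u ≠ 0) : (K.L u v)⁻¹ = K.L v u :=
  inv_eq_of_mul_eq_one_right (by rw [K.L_mul h h.symm h0, K.L_self h0])

theorem L_conj {g : GL (Fin 4) F} (hg : (g : M4).det = 1) {u v : V6} (h : u ⬝ᵥ u = v ⬝ᵥ v) (h0 : u ⬝ᵥ u ≠ 0) :
    g * K.L u v * g⁻¹ = K.L (K.act (g : M4) *ᵥ u) (K.act (g : M4) *ᵥ v) := by
  rw [mul_inv_eq_iff_eq_mul]
  refine Units.ext ?_
  rw [Units.val_mul, Units.val_mul, K.L_val h h0, K.L_val (by rw [K.act_dot hg, K.act_dot hg, h])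
    (by rw [K.act_dot hg]; exact h0), Lm, Lm, K.act_dot hg, mul_smul_comm, smul_mul_assoc]
  congr 1
  set v' := K.act (g : M4) *ᵥ v with hv'
  rw [K.Xm_act, mul_assoc _ (K.Xt v') _, mul_assoc ((g : M4) * K.Xm u) _ _]
  have hvv : v' ⬝ᵥ v' = v ⬝ᵥ v := by rw [hv', K.act_dot hg]
  have e1 : (g : M4) * (K.Xm v * ((g : M4)ᵀ * (K.Xt v' * (g : M4)))) = (g : M4) * (-(v ⬝ᵥ v) • 1) := by
    rw [show (g : M4) * (K.Xm v * ((g : M4)ᵀ * (K.Xt v' * (g : M4)))) =
      ((g : M4) * K.Xm v * (g : M4)ᵀ * K.Xt v') * (g : M4) by simp only [mul_assoc],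
      ← K.Xm_act, ← hv', K.Xm_Xt_self, hvv, smul_mul_assoc, one_mul, mul_smul_comm, mul_one]
  have e2 := g.isUnit.mul_left_cancel e1
  have e3 : (-(v ⬝ᵥ v)) • ((g : M4)ᵀ * (K.Xt v' * (g : M4))) = (-(v ⬝ᵥ v)) • K.Xt v := by
    have := congrArg (fun Z => K.Xt v * Z) e2
    simpa only [← mul_assoc, K.Xt_Xm_self, smul_mul_assoc, one_mul, mul_smul_comm, mul_one] using this
  rw [smul_right_injective M4 (neg_ne_zero.mpr (h ▸ h0)) e3, mul_assoc]

theorem L_neg_left {u v : V6} (h : u ⬝ᵥ u = v ⬝ᵥ v) (h0 : u ⬝ᵥ u ≠ 0) : K.L (-u) v = -K.L u v := by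
  refine Units.ext ?_
  rw [Units.val_neg, K.L_val h h0, K.L_val (by rw [neg_dotProduct_neg, h]) (by rw [neg_dotProduct_neg]; exact h0),
    Lm, Lm, neg_dotProduct_neg, map_neg, neg_mul, smul_neg]

theorem L_neg_right {u v : V6} (h : u ⬝ᵥ u = v ⬝ᵥ v) (h0 : u ⬝ᵥ u ≠ 0) : K.L u (-v) = -K.L u v := by
  refine Units.ext ?_
  rw [Units.val_neg, K.L_val h h0, K.L_val (by rw [neg_dotProduct_neg, h]) h0, Lm, Lm, ← neg_one_smul F v,
    K.Xt_smul, neg_one_smul, mul_neg, smul_neg]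

/-- Two pairs with a common first vector. -/
theorem L_reflect {u v x : V6} (h : u ⬝ᵥ u = v ⬝ᵥ v) (h' : u ⬝ᵥ u = x ⬝ᵥ x) (h0 : u ⬝ᵥ u ≠ 0) :
    K.L (refl u *ᵥ v) x = -(K.L u v * K.L u x) := by
  have hq : refl u *ᵥ v ⬝ᵥ refl u *ᵥ v = u ⬝ᵥ u := by
    rw [h, refl_mulVec]
    simp only [sub_dotProduct, dotProduct_sub, smul_dotProduct, dotProduct_smul, smul_eq_mul, dotProduct_comm v u]
    rw [← h]
    field_simp
    ring
  refine Units.ext ?_
  rw [Units.val_neg, Units.val_mul, K.L_val h h0, K.L_val h' h0, K.L_val (hq.trans h') (hq ▸ h0), Lm, Lm, Lm, hq,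
    smul_mul_smul_comm, ← mul_assoc, K.Xm_Xt_Xm, refl_mulVec, map_sub, map_smul]
  simp only [add_mul, sub_mul, smul_mul_assoc]
  match_scalars <;> field_simp <;> ring

end Kl

end Cfsg.Lib.Classical.KleinSix
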