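import Mathlib
import Cfsg.Agent.Classical.Misc.KleinSix.Basic

/-! Monomial elements for the six Klein coordinates. -/

set_option autoImplicit false
set_option linter.unusedSimpArgs false
set_option linter.unusedSectionVars false
set_option linter.unusedVariables false
set_option linter.style.haveILetI false
set_option linter.flexible false

namespace Cfsg.Lib.Classical.KleinSix

open Matrix
open scoped MatrixGroups

universe u

variable {F : Type u} [Field F]

local notation "M4" => Matrix (Fin 4) (Fin 4) F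
local notation "M6" => Matrix (Fin 6) (Fin 6) F
local notation "V6" => Fin 6 → F
local notation "G4" => GL (Fin 4) F

/-- A multiple of a standard vector. -/
def Axis (v : V6) : Prop := ∃ (j : Fin 6) (s : F), v = s • (e j : V6)

/-- Every standard vector goes to an axis. -/
def IsMono (A : M6) : Prop := ∀ k : Fin 6, Axis (A *ᵥ (e k : V6))

theorem Axis.smul {v : V6} (h : Axis v) (c : F) : Axis (c • v) := by
  obtain ⟨j, s, rfl⟩ := h
  exact ⟨j, c * s, smul_smul _ _ _⟩

theorem axis_e (k : Fin 6) : Axis (e k : V6) := ⟨k, 1, (one_smul _ _).symm⟩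

theorem Axis.two_coords {v : V6} (h : Axis v) {a b : Fin 6} (hab : a ≠ b) : v a = 0 ∨ v b = 0 := by
  obtain ⟨j, s, rfl⟩ := h
  by_cases h : a = j
  · right; simp [e, show b ≠ j from h ▸ hab.symm]
  · left; simp [e, h]

theorem axis_of_zeros {v : V6} {j : Fin 6} (h : ∀ l, l ≠ j → v l = 0) : Axis v :=
  ⟨j, v j, funext fun l => by by_cases hl : l = j <;> simp [e, hl, h]⟩

theorem IsMono.axis {A : M6} (hA : IsMono A) {v : V6} (h : Axis v) : Axis (A *ᵥ v) := by
  obtain ⟨j, s, rfl⟩ := h
  rw [Matrix.mulVec_smul]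
  exact (hA j).smul s

theorem isMono_one : IsMono (1 : M6) := fun k => by rw [Matrix.one_mulVec]; exact axis_e k

theorem IsMono.mul {A B : M6} (hA : IsMono A) (hB : IsMono B) : IsMono (A * B) := fun k => by
  rw [← Matrix.mulVec_mulVec]; exact hA.axis (hB k)

theorem e_dot_e (j k : Fin 6) : (e j : V6) ⬝ᵥ e k = if j = k then 1 else 0 := by
  rw [dot_e]; simp [e, Pi.single_apply, eq_comm]

theorem e_injective : Function.Injective (e (F := F)) := fun j k h => by
  by_contra hne
  have := congrFun h j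
  simp [e, hne] at this

theorem sq_one {s : F} (h : s * s = 1) (h0 : s = 0) : False := by simp [h0] at h

theorem IsMono.perm {A : M6} (hA : IsMono A) (ho : Aᵀ * A = 1) :
    ∃ (π : Equiv.Perm (Fin 6)) (ε : Fin 6 → F), (∀ k, ε k * ε k = 1) ∧ ∀ k, A *ᵥ e k = ε k • e (π k) := by
  choose π ε hε using hA
  have hdot : ∀ j k, (ε j • e (π j) : V6) ⬝ᵥ (ε k • e (π k)) = if j = k then 1 else 0 := fun j k => by
    rw [← hε, ← hε, Matrix.dotProduct_mulVec, Matrix.vecMul_mulVec, ho, Matrix.vecMul_one, e_dot_e]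
  simp only [smul_dotProduct, dotProduct_smul, e_dot_e, smul_eq_mul] at hdot
  have hsq : ∀ k, ε k * ε k = 1 := fun k => by simpa using hdot k k
  have hinj : Function.Injective π := fun j k h => by
    by_contra hne
    have := hdot j k
    rw [if_pos h, if_neg hne, mul_one] at this
    rcases mul_eq_zero.mp this with h0 | h0
    · exact sq_one (hsq _) h0
    · exact sq_one (hsq _) h0
  exact ⟨Equiv.ofBijective π (Finite.injective_iff_bijective.mp hinj), ε, hsq, hε⟩

theorem sq_one_ne {s : F} (h : s * s = 1) : s ≠ 0 := sq_one h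

theorem refl_e (a k : Fin 6) : refl (e a : V6) *ᵥ e k = if k = a then -e k else e k := by
  rw [refl_mulVec, e_dot_e, e_dot_e, if_pos rfl]
  split_ifs with h h' h'
  · subst h; simp [two_smul]
  · exact absurd h.symm h'
  · exact absurd h'.symm h
  · simp

theorem root_dot {a b : Fin 6} (hab : a ≠ b) {s : F} (hs : s * s = 1) :
    ((e a : V6) + s • e b) ⬝ᵥ (e a + s • e b) = 2 := by
  simp [add_dotProduct, dotProduct_add, e_dot_e, hab, hab.symm, smul_dotProduct, dotProduct_smul]
  linear_combination hs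

theorem root_dot_sub {a b : Fin 6} (hab : a ≠ b) : ((e a : V6) - e b) ⬝ᵥ (e a - e b) = 2 := by
  have h := root_dot (F := F) hab (s := -1) (by ring)
  rwa [neg_one_smul, ← sub_eq_add_neg] at h

theorem refl_root (h2 : (2 : F) ≠ 0) {a b : Fin 6} (hab : a ≠ b) {s : F} (hs : s * s = 1) (k : Fin 6) :
    refl ((e a : V6) + s • e b) *ᵥ e k =
      if k = a then -s • e b else if k = b then -s • e a else e k := by
  rw [refl_mulVec, root_dot hab hs, mul_div_cancel_left₀ _ h2]
  simp only [add_dotProduct, smul_dotProduct, e_dot_e, smul_eq_mul]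
  by_cases h : k = a
  · subst h; simp [hab.symm]
  by_cases h' : k = b
  · subst h'
    rw [if_neg h, if_pos rfl]
    simp [hab]
    match_scalars <;> first | (linear_combination hs) | (linear_combination -hs) | ring
  · simp [h, h', Ne.symm h, Ne.symm h']

theorem refl_swap (h2 : (2 : F) ≠ 0) {a b : Fin 6} (hab : a ≠ b) (k : Fin 6) :
    refl ((e a : V6) - e b) *ᵥ e k = e (Equiv.swap a b k) := by
  rw [show (e a : V6) - e b = e a + (-1 : F) • e b by module, refl_root h2 hab (by ring), neg_neg, one_smul, one_smul,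
    Equiv.swap_apply_def]
  split_ifs <;> rfl

theorem isMono_refl_e (a : Fin 6) : IsMono (refl (e a : V6)) := fun k => by
  rw [refl_e]; split_ifs
  · exact ⟨k, -1, (neg_one_smul _ _).symm⟩
  · exact axis_e k

theorem isMono_refl_root (h2 : (2 : F) ≠ 0) {a b : Fin 6} (hab : a ≠ b) {s : F} (hs : s * s = 1) :
    IsMono (refl ((e a : V6) + s • e b)) := fun k => by
  rw [refl_root h2 hab hs]; split_ifs
  exacts [(axis_e b).smul _, (axis_e a).smul _, axis_e k]

theorem isMono_refl_swap (h2 : (2 : F) ≠ 0) {a b : Fin 6} (hab : a ≠ b) : IsMono (refl ((e a : V6) - e b)) :=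
  fun k => by rw [refl_swap h2 hab]; exact axis_e _

namespace Kl

variable (C : Kl F)

/-- Monomial elements. -/
def Mono (g : G4) : Prop := IsMono (C.act (g : M4))

theorem act_val_mul (g h : G4) : C.act ((g * h : G4) : M4) = C.act (g : M4) * C.act (h : M4) := by
  rw [Units.val_mul, C.act_mul]

theorem act_inv_cancel (g : G4) (v : V6) : C.act ((g⁻¹ : G4) : M4) *ᵥ (C.act (g : M4) *ᵥ v) = v := by
  rw [Matrix.mulVec_mulVec, ← C.act_val_mul, inv_mul_cancel, Units.val_one, C.act_one, Matrix.one_mulVec]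

theorem act_cancel_inv (g : G4) (v : V6) : C.act (g : M4) *ᵥ (C.act ((g⁻¹ : G4) : M4) *ᵥ v) = v := by
  rw [Matrix.mulVec_mulVec, ← C.act_val_mul, mul_inv_cancel, Units.val_one, C.act_one, Matrix.one_mulVec]

theorem act_neg (g : G4) : C.act ((-g : G4) : M4) = C.act (g : M4) := by
  rw [Units.val_neg, ← neg_one_smul F (g : M4), C.act_smul]; simp

variable {C}

theorem mono_one : C.Mono 1 := by rw [Mono, Units.val_one, C.act_one]; exact isMono_one

theorem Mono.mul {g h : G4} (hg : C.Mono g) (hh : C.Mono h) : C.Mono (g * h) := by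
  rw [Mono, C.act_val_mul]; exact IsMono.mul hg hh

theorem Mono.neg {g : G4} (hg : C.Mono g) : C.Mono (-g) := by rw [Mono, C.act_neg]; exact hg

theorem Mono.inv {g : G4} (hg : C.Mono g) (hd : (g : M4).det = 1) : C.Mono g⁻¹ := fun k => by
  obtain ⟨π, ε, hε, hp⟩ := IsMono.perm hg (C.act_orth hd)
  have h := congrArg (C.act ((g⁻¹ : G4) : M4) *ᵥ ·) (hp (π.symm k))
  simp only [C.act_inv_cancel, Matrix.mulVec_smul, Equiv.apply_symm_apply] at h
  refine ⟨π.symm k, ε (π.symm k), ?_⟩
  rw [h, smul_smul, hε, one_smul]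

variable (C)

theorem det_inv {g : G4} (hd : (g : M4).det = 1) : ((g⁻¹ : G4) : M4).det = 1 := by
  have := congrArg Matrix.det (Units.mul_inv g)
  rwa [Matrix.det_mul, hd, one_mul, Matrix.det_one] at this

theorem det_mul {g h : G4} (hg : (g : M4).det = 1) (hh : (h : M4).det = 1) : ((g * h : G4) : M4).det = 1 := by
  rw [Units.val_mul, Matrix.det_mul, hg, hh, one_mul]

/-- The sign change of two coordinates. -/
noncomputable def D (a b : Fin 6) : G4 := C.L (e a) (e b)

/-- The product of two transpositions. -/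
noncomputable def sw (a b c d : Fin 6) : G4 := C.L (e a - e b) (e c - e d)

theorem act_D (a b : Fin 6) : C.act (C.D a b : M4) = refl (e a : V6) * refl (e b) :=
  C.act_L (by simp [e_dot_e]) (by simp [e_dot_e])

theorem act_sw {a b c d : Fin 6} (hab : a ≠ b) (hcd : c ≠ d) :
    C.act (C.sw a b c d : M4) = refl ((e a : V6) - e b) * refl (e c - e d) :=
  C.act_L (by rw [root_dot_sub hab, root_dot_sub hcd]) (by rw [root_dot_sub hab]; exact C.two)

theorem mono_D (a b : Fin 6) : C.Mono (C.D a b) := by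
  rw [Mono, C.act_D]; exact (isMono_refl_e a).mul (isMono_refl_e b)

theorem mono_sw {a b c d : Fin 6} (hab : a ≠ b) (hcd : c ≠ d) : C.Mono (C.sw a b c d) := by
  rw [Mono, C.act_sw hab hcd]; exact (isMono_refl_swap C.two hab).mul (isMono_refl_swap C.two hcd)

theorem D_e {a b : Fin 6} (hab : a ≠ b) (k : Fin 6) :
    C.act (C.D a b : M4) *ᵥ e k = if k = a ∨ k = b then -e k else e k := by
  rw [C.act_D, ← Matrix.mulVec_mulVec, refl_e]
  by_cases hb : k = b
  · subst hb; simp [Matrix.mulVec_neg, refl_e, hab.symm]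
  · simp [hb, refl_e]

theorem D_apply {a b : Fin 6} (hab : a ≠ b) (v : V6) (l : Fin 6) :
    (C.act (C.D a b : M4) *ᵥ v) l = if l = a ∨ l = b then -v l else v l := by
  rw [C.act_D, ← Matrix.mulVec_mulVec, refl_mulVec, refl_mulVec]
  simp only [e_dot_e, e_dot, if_true, div_one, Pi.sub_apply, Pi.smul_apply, smul_eq_mul]
  by_cases ha : l = a
  · subst ha; simp [e, hab]; ring
  by_cases hb : l = b
  · subst hb; simp [e, ha, hab]; ring
  · simp [e, ha, hb]

theorem sw_e {a b c d : Fin 6} (hab : a ≠ b) (hcd : c ≠ d) (k : Fin 6) :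
    C.act (C.sw a b c d : M4) *ᵥ e k = e (Equiv.swap a b (Equiv.swap c d k)) := by
  rw [C.act_sw hab hcd, ← Matrix.mulVec_mulVec, refl_swap C.two hcd, refl_swap C.two hab]

theorem exists_two_out : ∀ a b c : Fin 6, ∃ x y : Fin 6, x ≠ y ∧ x ≠ a ∧ x ≠ b ∧ x ≠ c ∧ y ≠ a ∧ y ≠ b ∧ y ≠ c := by
  decide +kernel

/-- Monomial elements are transitive on pairs of axes. -/
theorem exists_mono {a b k l : Fin 6} (hab : a ≠ b) (hkl : k ≠ l) :
    ∃ m : G4, (m : M4).det = 1 ∧ C.Mono m ∧ C.act (m : M4) *ᵥ e a = e k ∧ C.act (m : M4) *ᵥ e b = e l := by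
  obtain ⟨m₁, hd₁, hm₁, b', hb', ha₁, hb₁⟩ : ∃ m : G4, (m : M4).det = 1 ∧ C.Mono m ∧ ∃ b', b' ≠ k ∧
      C.act (m : M4) *ᵥ e a = e k ∧ C.act (m : M4) *ᵥ e b = e b' := by
    by_cases hak : a = k
    · exact ⟨1, by simp, mono_one, b, hak ▸ hab.symm, by simp [hak, C.act_one], by simp [C.act_one]⟩
    obtain ⟨c, d, hcd, hca, hck, -, hda, hdk, -⟩ := exists_two_out a k k
    refine ⟨C.sw a k c d, C.L_det _ _, C.mono_sw hak hcd, Equiv.swap a k (Equiv.swap c d b), ?_, ?_,
      C.sw_e hak hcd b⟩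
    · intro h
      apply hab
      have h1 : Equiv.swap a k (Equiv.swap c d a) = k := by
        rw [Equiv.swap_apply_of_ne_of_ne hca.symm hda.symm, Equiv.swap_apply_left]
      exact (Equiv.injective _ ((Equiv.injective _ (h1.trans h.symm))))
    · rw [C.sw_e hak hcd, Equiv.swap_apply_of_ne_of_ne hca.symm hda.symm, Equiv.swap_apply_left]
  by_cases hbl : b' = l
  · exact ⟨m₁, hd₁, hm₁, ha₁, hbl ▸ hb₁⟩
  obtain ⟨c, d, hcd, hck, hcb, hcl, hdk, hdb, hdl⟩ := exists_two_out k b' l
  refine ⟨C.sw b' l c d * m₁, det_mul (C.L_det _ _) hd₁, (C.mono_sw hbl hcd).mul hm₁, ?_, ?_⟩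
  · rw [C.act_val_mul, ← Matrix.mulVec_mulVec, ha₁, C.sw_e hbl hcd, Equiv.swap_apply_of_ne_of_ne hck.symm hdk.symm,
      Equiv.swap_apply_of_ne_of_ne hb'.symm hkl]
  · rw [C.act_val_mul, ← Matrix.mulVec_mulVec, hb₁, C.sw_e hbl hcd, Equiv.swap_apply_of_ne_of_ne hcb.symm hdb.symm,
      Equiv.swap_apply_left]

/-- A subgroup of determinant one containing all monomial elements, and not everything. -/
structure Over (C : Kl F) (G : Subgroup G4) : Prop where
  det : ∀ g ∈ G, (g : M4).det = 1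
  mono : ∀ g : G4, (g : M4).det = 1 → C.Mono g → g ∈ G
  proper : ∃ g : G4, (g : M4).det = 1 ∧ g ∉ G

variable {C}

theorem Over.neg_mem {G : Subgroup G4} (h : Over C G) {g : G4} (hg : g ∈ G) : -g ∈ G := by
  have h1 : (-1 : G4) ∈ G := h.mono _ (by simp [Matrix.det_neg]; norm_num) mono_one.neg
  simpa using G.mul_mem h1 hg

theorem Over.of_neg_mem {G : Subgroup G4} (h : Over C G) {g : G4} (hg : -g ∈ G) : g ∈ G := by simpa using h.neg_mem hg

theorem Over.D_mem {G : Subgroup G4} (h : Over C G) (a b : Fin 6) : C.D a b ∈ G := h.mono _ (C.L_det _ _) (C.mono_D a b)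

theorem Over.sw_mem {G : Subgroup G4} (h : Over C G) {a b c d : Fin 6} (hab : a ≠ b) (hcd : c ≠ d) : C.sw a b c d ∈ G :=
  h.mono _ (C.L_det _ _) (C.mono_sw hab hcd)

end Kl

end Cfsg.Lib.Classical.KleinSix
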