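import Mathlib
import Cfsg.Agent.Classical.Misc.KleinSix.Mono
import Cfsg.Agent.Classical.Symp.SpFiveFrame
import Cfsg.Agent.Classical.Linear.GeomLists
import Cfsg.Agent.Classical.Misc.TwoSix.Linear

/-! An element sending an axis to an axis is monomial: the symplectic four-group inside. -/

set_option autoImplicit false
set_option linter.unusedSimpArgs false
set_option linter.unusedSectionVars false
set_option linter.unusedVariables false
set_option linter.style.haveILetI false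
set_option linter.flexible false

namespace Cfsg.Lib.Classical.KleinSix

open Matrix
open scoped MatrixGroups

universe u

variable {F : Type u} [Field F]

local notation "M4" => Matrix (Fin 4) (Fin 4) F
local notation "M6" => Matrix (Fin 6) (Fin 6) F
local notation "V6" => Fin 6 → F
local notation "G4" => GL (Fin 4) F
local notation "ι4" => (Fin 2 ⊕ Fin 2)

/-- Every standard vector is an eigenvector. -/
def IsDiagonal (A : M6) : Prop := ∀ k : Fin 6, ∃ s : F, A *ᵥ (e k : V6) = s • (e k : V6)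

theorem isDiagonal_one : IsDiagonal (1 : M6) := fun k => ⟨1, by rw [Matrix.one_mulVec, one_smul]⟩

theorem IsDiagonal.mul {A B : M6} (hA : IsDiagonal A) (hB : IsDiagonal B) : IsDiagonal (A * B) := fun k => by
  obtain ⟨s, hs⟩ := hB k
  obtain ⟨t, ht⟩ := hA k
  exact ⟨s * t, by rw [← Matrix.mulVec_mulVec, hs, Matrix.mulVec_smul, ht, smul_smul]⟩

theorem IsDiagonal.smul {A : M6} (hA : IsDiagonal A) (c : F) : IsDiagonal (c • A) := fun k => by
  obtain ⟨s, hs⟩ := hA k
  exact ⟨c * s, by rw [Matrix.smul_mulVec, hs, smul_smul]⟩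

theorem IsDiagonal.off {A : M6} (hA : IsDiagonal A) {p q : Fin 6} (h : q ≠ p) : (A *ᵥ (e p : V6)) q = 0 := by
  obtain ⟨s, hs⟩ := hA p
  rw [hs]; simp [e, h]

theorem mat_ext {A B : M6} (h : ∀ k : Fin 6, A *ᵥ (e k : V6) = B *ᵥ (e k : V6)) : A = B := by
  ext a k
  have := congrFun (h k) a
  simpa [e] using this

namespace Kl

variable (C : Kl F)

theorem L_sq {u v : V6} (h : u ⬝ᵥ u = v ⬝ᵥ v) (h0 : u ⬝ᵥ u ≠ 0) (huv : u ⬝ᵥ v = 0) :
    C.L u v * C.L u v = -1 := by
  have h1 := C.L_reflect h h h0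
  rw [refl_fix huv, C.L_self (h ▸ h0)] at h1
  rw [h1, neg_neg]

theorem D_mul {j k : Fin 6} (hj : (0 : Fin 6) ≠ j) : C.D 0 j * C.D 0 k = -C.D j k := by
  have h1 := C.L_reflect (u := (e 0 : V6)) (v := e j) (x := e k) (by simp [e_dot_e]) (by simp [e_dot_e])
    (by simp [e_dot_e])
  rw [refl_fix (by simp [e_dot_e, hj])] at h1
  exact (by rw [D, D, D, h1, neg_neg] : C.D 0 j * C.D 0 k = -C.D j k)

theorem D_swap {j k : Fin 6} (hjk : j ≠ k) : C.D k j = -C.D j k := by
  have h1 := C.L_sq (u := (e j : V6)) (v := e k) (by simp [e_dot_e]) (by simp [e_dot_e]) (by simp [e_dot_e, hjk])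
  have h2 : (C.D j k)⁻¹ = C.D k j := C.L_inv (by simp [e_dot_e]) (by simp [e_dot_e])
  rw [← h2]
  exact inv_eq_of_mul_eq_one_right (by rw [mul_neg, show C.D j k * C.D j k = -1 from h1, neg_neg])

theorem act_D_diag (a b : Fin 6) : IsDiagonal (C.act (C.D a b : M4)) := by
  rw [C.act_D]
  refine IsDiagonal.mul ?_ ?_ <;> intro k <;> rw [refl_e] <;> split_ifs <;>
    first | exact ⟨-1, (neg_one_smul _ _).symm⟩ | exact ⟨1, (one_smul _ _).symm⟩

/-- The four anticommuting involutions of the standard group. -/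
noncomputable def inv4 (k : Fin 4) : G4 := TwoSix.scalarGL C.i C.i_ne * C.D 0 (![1, 2, 3, 4] k)

theorem inv4_val (k : Fin 4) : ((C.inv4 k : G4) : M4) = C.i • (C.D 0 (![1, 2, 3, 4] k) : M4) := by
  rw [inv4, Units.val_mul]
  show C.i • (1 : M4) * _ = _
  rw [smul_mul_assoc, one_mul]

theorem inv4_act (k : Fin 4) : C.act (C.inv4 k : M4) = -C.act (C.D 0 (![1, 2, 3, 4] k) : M4) := by
  rw [C.inv4_val, C.act_smul, C.hi, neg_one_smul]

theorem inv4_det (k : Fin 4) : ((C.inv4 k : G4) : M4).det = 1 := by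
  rw [C.inv4_val, Matrix.det_smul, D, C.L_det, Fintype.card_fin, mul_one]
  linear_combination (C.i * C.i - 1) * C.hi

theorem idx_ne : ∀ k : Fin 4, (0 : Fin 6) ≠ ![1, 2, 3, 4] k := by decide

theorem idx_inj : ∀ j k : Fin 4, j ≠ k → (![1, 2, 3, 4] : Fin 4 → Fin 6) j ≠ ![1, 2, 3, 4] k := by decide

theorem inv4_mul (j k : Fin 4) :
    ((C.inv4 j * C.inv4 k : G4) : M4) = (C.D (![1, 2, 3, 4] j) (![1, 2, 3, 4] k) : M4) := by
  rw [Units.val_mul, C.inv4_val, C.inv4_val, smul_mul_smul_comm, C.hi, ← Units.val_mul, C.D_mul (idx_ne j),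
    Units.val_neg, neg_one_smul, neg_neg]

theorem inv4_sq (k : Fin 4) : C.inv4 k * C.inv4 k = 1 := Units.ext (by
  rw [C.inv4_mul, D, C.L_self (by simp [e_dot_e])])

theorem inv4_anti (j k : Fin 4) (h : j ≠ k) : TwoSix.Sg 1 (C.inv4 j : M4) (C.inv4 k : M4) := by
  rw [TwoSix.Sg.anti, ← Units.val_mul, ← Units.val_mul, C.inv4_mul, C.inv4_mul, C.D_swap (idx_inj j k h),
    Units.val_neg, neg_neg]

theorem inv4_fix (k : Fin 4) : C.act (C.inv4 k : M4) *ᵥ (e 0 : V6) = e 0 := by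
  rw [C.inv4_act, Matrix.neg_mulVec, C.D_e (idx_ne k)]; simp

theorem inv4_diag (k : Fin 4) : IsDiagonal (C.act (C.inv4 k : M4)) := by
  rw [C.inv4_act, ← neg_one_smul F (C.act _)]; exact (C.act_D_diag _ _).smul _

/-- The product of the four involutions acts as minus the sign change of the first and last coordinates. -/
theorem inv4_word : C.act ((C.inv4 0 * C.inv4 1 * C.inv4 2 * C.inv4 3 : G4) : M4) = -C.act (C.D 0 5 : M4) := by
  simp only [C.act_val_mul, C.inv4_act]
  refine mat_ext fun k => ?_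
  simp only [neg_mul, mul_neg, neg_neg, Matrix.neg_mulVec, ← Matrix.mulVec_mulVec]
  fin_cases k <;> simp [C.D_e, Matrix.mulVec_neg]

/-- The standard four involutions form a frame of the group they generate. -/
theorem inv4_frame : TwoSix.Frame (Subgroup.closure (Set.range C.inv4)) C.inv4 := by
  refine ⟨by simp, C.two, ?_, fun k => Subgroup.subset_closure ⟨k, rfl⟩, C.inv4_sq, C.inv4_anti⟩
  have hval : ∀ x y : G4, ((x * y : G4) : M4) = (x : M4) * (y : M4) := fun _ _ => rfl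
  have h1 : ∀ y : G4, (∀ k, ∃ t, TwoSix.Sg t (C.inv4 k : M4) (y : M4)) →
      ∀ x ∈ (Subgroup.closure (Set.range C.inv4)), ∃ t, TwoSix.Sg t (x : M4) (y : M4) := fun y hy x hx => by
    induction hx using Subgroup.closure_induction with
    | mem x hx => obtain ⟨k, rfl⟩ := hx; exact hy k
    | one => exact ⟨0, TwoSix.Sg.one_left _⟩
    | mul a b _ _ ha hb =>
      obtain ⟨s, hs⟩ := ha; obtain ⟨t, ht⟩ := hb
      exact ⟨s + t, by rw [hval]; exact hs.mul_left ht⟩
    | inv a _ ha => obtain ⟨s, hs⟩ := ha; exact ⟨s, hs.inv_left⟩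
  intro x hx y hy
  refine h1 y (fun k => ?_) x hx
  obtain ⟨t, ht⟩ := h1 (C.inv4 k) (fun j => by
    by_cases hjk : j = k
    · exact ⟨0, hjk ▸ TwoSix.Sg.refl _⟩
    · exact ⟨1, C.inv4_anti j k hjk⟩) y hy
  exact ⟨t, ht.symm⟩

/-! ### The bridge to the symplectic group -/

/-- The change of indices. -/
def e4 : Fin 4 ≃ ι4 where
  toFun := ![.inr 0, .inl 0, .inr 1, .inl 1]
  invFun := Sum.elim ![1, 3] ![0, 2]
  left_inv k := by fin_cases k <;> rfl
  right_inv k := by rcases k with k | k <;> fin_cases k <;> rfl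

/-- The change of indices on invertible matrices. -/
def toSp : G4 ≃* GL ι4 F := Units.mapEquiv (Matrix.reindexAlgEquiv F F e4).toMulEquiv

theorem toSp_val (g : G4) : ((toSp g : GL ι4 F) : Matrix ι4 ι4 F) = Matrix.reindex e4 e4 (g : M4) := rfl

theorem reindex_Xm_zero : Matrix.reindex e4 e4 (C.Xm (e 0)) = Matrix.J (Fin 2) F := by
  ext (a | a) (b | b) <;> fin_cases a <;> fin_cases b <;>
    simp [e4, Xm, e, Matrix.J, Matrix.fromBlocks]

theorem toSp_mem [Fintype F] {g : G4} : toSp g ∈ Cfsg.spGL 2 F ↔ C.act (g : M4) *ᵥ (e 0 : V6) = e 0 := by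
  rw [TwoSix.mem_sp_iff, ← SymplecticGroup.mem_iff', SymplecticGroup.mem_iff, toSp_val, ← C.reindex_Xm_zero,
    ← C.Xm_inj.eq_iff, C.Xm_act]
  simp only [Matrix.reindex_apply, Matrix.transpose_submatrix, Matrix.submatrix_mul_equiv]
  exact ⟨fun h => (Matrix.reindex e4 e4).injective h, fun h => by rw [h]⟩

theorem toSp_det [Fintype F] {g : G4} (h : toSp g ∈ Cfsg.spGL 2 F) : (g : M4).det = 1 := by
  have h1 := SymplecticGroup.det_eq_one ((SpExtDer.mem_spGL_iff _).mp h)
  rwa [toSp_val, Matrix.det_reindex_self] at h1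

/-- A conjugated diagonal reflection pair on a fixed first axis. -/
theorem axis_of_diag {g : G4} (hd : (g : M4).det = 1) (h0 : C.act (g : M4) *ᵥ (e 0 : V6) = e 0) {k : Fin 6}
    (hk : k ≠ 0) (hdiag : IsDiagonal (C.act ((g * C.D 0 k * g⁻¹ : G4) : M4))) :
    Axis (C.act (g : M4) *ᵥ (e k : V6)) := by
  set w := C.act (g : M4) *ᵥ (e k : V6) with hw
  have hww : w ⬝ᵥ w = 1 := by rw [hw, C.act_dot hd]; simp [e_dot_e]
  have hw0 : w 0 = 0 := by rw [← e_dot w, hw]; conv_lhs => rw [← h0, C.act_dot hd, e_dot_e, if_neg hk.symm]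
  have e1 : g * C.D 0 k * g⁻¹ = C.L (e 0) w := by
    rw [D, C.L_conj hd (by simp [e_dot_e]) (by simp [e_dot_e]), h0]
  rw [e1, C.act_L (by rw [hww]; simp [e_dot_e]) (by simp [e_dot_e])] at hdiag
  by_contra hax
  obtain ⟨p, q, hpq, hp, hq⟩ : ∃ p q, p ≠ q ∧ w p ≠ 0 ∧ w q ≠ 0 := by
    obtain ⟨p, hp⟩ : ∃ p, w p ≠ 0 := by
      by_contra hc
      push Not at hc
      exact hax (axis_of_zeros (j := 0) fun l _ => hc l)
    by_contra hc
    push Not at hc
    exact hax (axis_of_zeros (j := p) fun l hl => hc p l (Ne.symm hl) hp)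
  have h := hdiag.off (p := p) (q := q) hpq.symm
  have hq0 : q ≠ 0 := fun h' => hq (h' ▸ hw0)
  have hp0 : p ≠ 0 := fun h' => hp (h' ▸ hw0)
  rw [← Matrix.mulVec_mulVec, refl_mulVec (e 0), Pi.sub_apply, Pi.smul_apply,
    show (e 0 : V6) q = 0 by simp [e, hq0], smul_zero, sub_zero, refl_mulVec w, hww, dot_e, div_one, Pi.sub_apply,
    Pi.smul_apply, show (e p : V6) q = 0 by simp [e, hpq.symm], zero_sub, smul_eq_mul, neg_eq_zero] at h
  simp [C.two, hp, hq] at h

theorem mono_of_conj {g : G4} (hd : (g : M4).det = 1) (h0 : C.act (g : M4) *ᵥ (e 0 : V6) = e 0)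
    (h : ∀ k : Fin 6, k ≠ 0 → IsDiagonal (C.act ((g * C.D 0 k * g⁻¹ : G4) : M4))) : C.Mono g := fun k => by
  by_cases hk : k = 0
  · rw [hk, h0]; exact axis_e 0
  · exact C.axis_of_diag hd h0 hk (h k hk)

variable {C} [Fintype F]

theorem mono_of_fix {G : Subgroup G4} (hp : (Fintype.card F).Prime) (hodd : Odd (Fintype.card F)) (hG : Over C G) {g : G4}
    (hg : g ∈ G) (h0 : C.act (g : M4) *ᵥ (e 0 : V6) = e 0) : C.Mono g := by
  classical
  let S0 : Subgroup G4 := Subgroup.closure (Set.range C.inv4)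
  let R0 : Subgroup (GL ι4 F) := S0.map (toSp (F := F)).toMonoidHom
  have hmemS : ∀ k, C.inv4 k ∈ S0 := fun k => Subgroup.subset_closure ⟨k, rfl⟩
  have hsgn : ∀ x ∈ S0, ∀ y ∈ S0, ∃ t, TwoSix.Sg t (x : M4) (y : M4) := C.inv4_frame.signed
  have hre : ∀ {t : ZMod 2} {x y : G4}, TwoSix.Sg t (x : M4) (y : M4) →
      TwoSix.Sg t ((toSp x : GL ι4 F) : Matrix ι4 ι4 F) ((toSp y : GL ι4 F) : Matrix ι4 ι4 F) := by
    intro t x y h
    have := congrArg (Matrix.reindexAlgEquiv F F e4) (show (x : M4) * (y : M4) = TwoSix.eps t • ((y : M4) * (x : M4)) from h)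
    rwa [map_mul, map_smul, map_mul] at this
  have hle : R0 ≤ Cfsg.spGL 2 F := by
    rw [Subgroup.map_le_iff_le_comap, Subgroup.closure_le]
    rintro _ ⟨k, rfl⟩
    exact C.toSp_mem.mpr (C.inv4_fix k)
  have S : TwoSix.Frame R0 fun k => toSp (C.inv4 k) :=
    { card_eq := by simp
      two := C.two
      signed := by
        rintro _ ⟨x, hx, rfl⟩ _ ⟨y, hy, rfl⟩
        obtain ⟨t, ht⟩ := hsgn x hx y hy
        exact ⟨t, hre ht⟩
      mem := fun k => Subgroup.mem_map_of_mem _ (hmemS k)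
      sq := fun k => by rw [← map_mul, C.inv4_sq, map_one]
      anti := fun j k h => hre (C.inv4_anti j k h) }
  have hmax := SpFive.frame_normalizer_maximal hodd C.two hp hle S
  have hdiagS : ∀ x ∈ S0, IsDiagonal (C.act (x : M4)) := fun x hx => by
    induction hx using Subgroup.closure_induction_left with
    | one => rw [Units.val_one, C.act_one]; exact isDiagonal_one
    | mul_left x hx y _ hy => obtain ⟨k, rfl⟩ := hx; rw [C.act_val_mul]; exact (C.inv4_diag k).mul hy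
    | inv_mul_cancel x hx y _ hy =>
      obtain ⟨k, rfl⟩ := hx
      rw [inv_eq_of_mul_eq_one_left (C.inv4_sq k), C.act_val_mul]; exact (C.inv4_diag k).mul hy
  -- normalising elements are monomial
  have hNmono : ∀ x : G4, toSp x ∈ Cfsg.Geo.subgroupNormalizer R0 ⊓ Cfsg.spGL 2 F → C.Mono x := by
    rintro x ⟨hxN, hxS⟩
    have hd := toSp_det hxS
    have hconj : ∀ y ∈ S0, x * y * x⁻¹ ∈ S0 := fun y hy => by
      have := (Subgroup.mem_normalizer_iff.mp hxN _).mp (Subgroup.mem_map_of_mem _ hy)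
      rw [MulEquiv.coe_toMonoidHom, ← map_inv, ← map_mul, ← map_mul] at this
      obtain ⟨z, hz, hzz⟩ := this
      rwa [← toSp.injective hzz]
    refine C.mono_of_conj hd (C.toSp_mem.mp hxS) fun k hk => ?_
    have key : ∀ y : G4, C.act (y : M4) = -C.act (C.D 0 k : M4) → y ∈ S0 →
        IsDiagonal (C.act ((x * C.D 0 k * x⁻¹ : G4) : M4)) := fun y hy hyS => by
      have h := (hdiagS _ (hconj y hyS)).smul (-1)
      rwa [C.act_val_mul, C.act_val_mul, hy, mul_neg, neg_mul, neg_smul, one_smul, neg_neg, ← C.act_val_mul,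
        ← C.act_val_mul] at h
    obtain rfl | rfl | rfl | rfl | rfl : k = 1 ∨ k = 2 ∨ k = 3 ∨ k = 4 ∨ k = 5 := by clear key; revert hk; revert k; decide
    · exact key _ (C.inv4_act 0) (hmemS 0)
    · exact key _ (C.inv4_act 1) (hmemS 1)
    · exact key _ (C.inv4_act 2) (hmemS 2)
    · exact key _ (C.inv4_act 3) (hmemS 3)
    · exact key _ C.inv4_word (mul_mem (mul_mem (mul_mem (hmemS 0) (hmemS 1)) (hmemS 2)) (hmemS 3))
  rcases hmax.2 (G.map (toSp (F := F)).toMonoidHom ⊓ Cfsg.spGL 2 F) (fun y hy => ⟨⟨toSp.symm y, hG.mono _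
      (toSp_det (by rw [MulEquiv.apply_symm_apply]; exact hy.2)) (hNmono _ (by rwa [MulEquiv.apply_symm_apply])),
      toSp.apply_symm_apply y⟩, hy.2⟩) inf_le_right with hM | hM
  · exact hNmono g (hM ▸ ⟨Subgroup.mem_map_of_mem _ hg, C.toSp_mem.mpr h0⟩)
  exfalso
  have hsp : ∀ x : G4, C.act (x : M4) *ᵥ (e 0 : V6) = e 0 → x ∈ G := fun x hx => by
    have h1 : toSp x ∈ G.map (toSp (F := F)).toMonoidHom ⊓ Cfsg.spGL 2 F := hM.symm ▸ C.toSp_mem.mpr hx
    obtain ⟨z, hz, hzz⟩ := h1.1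
    rwa [← toSp.injective hzz]
  set A : M4 := C.Xm (e 0) with hA
  have hAA : A * A = -1 := by
    rw [hA]
    ext a b; fin_cases a <;> fin_cases b <;> simp [Xm, e, Matrix.mul_apply, Fin.sum_univ_succ, Matrix.one_apply]
  let f : (Fin 4 → F) → (Fin 4 → F) → F := fun x y => x ⬝ᵥ (A *ᵥ y)
  have hfs : ∀ x y, f x y = -f y x := fun x y => by
    simp [f, hA, Xm, e, dotProduct, Matrix.mulVec, Fin.sum_univ_succ]; ring
  have hf : Cfsg.Geo.IsSymplecticForm f :=
    { bilinear :=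
        ⟨fun x y v => add_dotProduct x y _, fun c x v => smul_dotProduct c x _,
          fun v x y => by simp [f, Matrix.mulVec_add, dotProduct_add],
          fun c v x => by simp [f, Matrix.mulVec_smul, dotProduct_smul]⟩
      skew := hfs
      alternating := fun v => (mul_eq_zero.mp (show (2 : F) * f v v = 0 by linear_combination hfs v v)).resolve_left C.two
      nondegenerate := fun v hv => by
        have h1 : A *ᵥ v ≠ 0 := fun h => hv (by
          have := congrArg (A *ᵥ ·) h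
          simpa [Matrix.mulVec_mulVec, hAA, Matrix.mulVec_zero, Matrix.neg_mulVec] using this)
        obtain ⟨k, hk⟩ := Function.ne_iff.mp h1
        have h2 : f (Pi.single k 1) v ≠ 0 := by simpa [f] using hk
        exact ⟨⟨_, h2⟩, Pi.single k 1, by rw [hfs]; exact neg_ne_zero.mpr h2⟩ }
  have hsim : ∀ x : G4, (x : M4).det = 1 → x ∈ Cfsg.Geo.similarityGroup f →
      ∃ l : F, l * l = 1 ∧ C.act (x : M4) *ᵥ (e 0 : V6) = l • (e 0 : V6) := by
    rintro x hd ⟨c, hc⟩
    have h1 : (x : M4)ᵀ * A * (x : M4) = (c : F) • A := by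
      ext a b
      have h := hc (Pi.single a 1) (Pi.single b 1)
      simp only [f, Matrix.mulVec_mulVec] at h
      rw [← Matrix.vecMul_transpose, ← Matrix.dotProduct_mulVec, Matrix.mulVec_mulVec, ← mul_assoc] at h
      simpa using h
    have hc0 : (c : F) ≠ 0 := c.ne_zero
    have h2 : (-(c : F)⁻¹ • (A * (x : M4)ᵀ * A)) * (x : M4) = 1 := by
      rw [smul_mul_assoc, mul_assoc, mul_assoc, ← mul_assoc (x : M4)ᵀ, h1, mul_smul_comm, hAA, smul_smul]
      simp [hc0]
    have h3 := mul_eq_one_comm.mp h2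
    have h4 : (x : M4) * A * (x : M4)ᵀ = (c : F) • A := by
      rw [mul_smul_comm, ← mul_assoc, ← mul_assoc] at h3
      have h5 := congrArg (fun Z => ((c : F) • Z) * A) h3
      simp only [smul_smul, mul_neg, mul_inv_cancel₀ hc0, neg_smul, one_smul, neg_mul, smul_mul_assoc, one_mul,
        mul_assoc, hAA, mul_one, neg_neg] at h5
      simpa [mul_assoc] using h5
    have h6 : C.act (x : M4) *ᵥ (e 0 : V6) = (c : F) • (e 0 : V6) := C.Xm_inj (by rw [C.Xm_act, map_smul]; exact h4)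
    refine ⟨c, ?_, h6⟩
    have := C.act_dot hd (e 0) (e 0)
    simpa [h6, e_dot_e, smul_dotProduct, dotProduct_smul] using this
  have hmem : ∀ x : G4, (x : M4).det = 1 → x ∈ Cfsg.Geo.similarityGroup f → x ∈ G := fun x hd hx => by
    obtain ⟨l, hl, hxe⟩ := hsim x hd hx
    rcases mul_self_eq_one_iff.mp hl with rfl | rfl
    · exact hsp x (by rw [hxe, one_smul])
    · have h1 : C.D 0 1 * x ∈ G := hsp _ (by
        rw [C.act_val_mul, ← Matrix.mulVec_mulVec, hxe, Matrix.mulVec_smul, C.D_e (by decide)]; simp)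
      simpa using G.mul_mem (G.inv_mem (hG.D_mem 0 1)) h1
  obtain ⟨-, hmax2⟩ := LinGeom.symplectic_maximal 4 le_rfl f hf
  rcases hmax2 G (fun x hx => hmem x ((TwoSix.mem_SL_iff x).mp hx.2) hx.1)
    (fun x hx => (TwoSix.mem_SL_iff x).mpr (hG.det x hx)) with hEq | hEq
  · have h01 : (0 : Fin 6) ≠ 1 := by decide
    have h23 : (2 : Fin 6) ≠ 3 := by decide
    have h1 : C.sw 0 1 2 3 ∈ G := hG.sw_mem h01 h23
    rw [hEq] at h1
    obtain ⟨l, hl, h2⟩ := hsim (C.sw 0 1 2 3) (C.L_det _ _) h1.1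
    rw [C.sw_e h01 h23] at h2
    have := congrFun h2 1
    simp [e, Equiv.swap_apply_def] at this
  · obtain ⟨x, hxd, hxG⟩ := hG.proper
    exact hxG (hEq.symm ▸ (TwoSix.mem_SL_iff x).mpr hxd)

/-- An element of an overgroup sending some axis to an axis is monomial. -/
theorem mono_of_axis {G : Subgroup G4} (hp : (Fintype.card F).Prime) (hodd : Odd (Fintype.card F)) (hG : Over C G) {g : G4}
    (hg : g ∈ G) {k : Fin 6} (h : Axis (C.act (g : M4) *ᵥ (e k : V6))) : C.Mono g := by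
  obtain ⟨j, s, hs⟩ := h
  obtain ⟨k', hk'⟩ := exists_ne k
  obtain ⟨j', hj'⟩ := exists_ne j
  obtain ⟨m₁, hd₁, hm₁, he₁, -⟩ := C.exists_mono (a := 0) (b := 1) (k := k) (l := k') (by decide) hk'.symm
  obtain ⟨m₂, hd₂, hm₂, he₂, -⟩ := C.exists_mono (a := j) (b := j') (k := 0) (l := 1) hj'.symm (by decide)
  have hd := hG.det g hg
  have hmem : m₂ * g * m₁ ∈ G := G.mul_mem (G.mul_mem (hG.mono _ hd₂ hm₂) hg) (hG.mono _ hd₁ hm₁)
  have h0 : C.act ((m₂ * g * m₁ : G4) : M4) *ᵥ (e 0 : V6) = s • (e 0 : V6) := by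
    rw [C.act_val_mul, C.act_val_mul, ← Matrix.mulVec_mulVec, he₁, ← Matrix.mulVec_mulVec, hs, Matrix.mulVec_smul, he₂]
  have hs2 : s * s = 1 := by
    have := C.act_dot hd (e k) (e k)
    simpa [hs, e_dot_e, smul_dotProduct, dotProduct_smul] using this
  have hmono : C.Mono (m₂ * g * m₁) := by
    rcases mul_self_eq_one_iff.mp hs2 with rfl | rfl
    · exact mono_of_fix hp hodd hG hmem (by rw [h0, one_smul])
    · have h1 := mono_of_fix hp hodd hG (G.mul_mem (hG.D_mem 0 1) hmem) (by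
        rw [C.act_val_mul, ← Matrix.mulVec_mulVec, h0, Matrix.mulVec_smul, C.D_e (by decide)]; simp)
      simpa using ((C.mono_D 0 1).inv (C.L_det _ _)).mul h1
  simpa [mul_assoc] using ((hm₂.inv hd₂).mul hmono).mul (hm₁.inv hd₁)

end Kl

end Cfsg.Lib.Classical.KleinSix
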