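import Mathlib
import Cfsg.Agent.Classical.Misc.KleinSix.Axis

/-! An element fixing a root is monomial. -/

set_option autoImplicit false
set_option linter.unusedSimpArgs false
set_option linter.unusedSectionVars false
set_option linter.unusedVariables false
set_option linter.style.haveILetI false
set_option linter.flexible false

namespace Cfsg.Lib.Classical.KleinSix

open Matrix
open scoped MatrixGroups

universe u

variable {F : Type u} [Field F]

local notation "M4" => Matrix (Fin 4) (Fin 4) F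
local notation "M6" => Matrix (Fin 6) (Fin 6) F
local notation "V6" => Fin 6 → F
local notation "G4" => GL (Fin 4) F
local notation "va" => ((e (0 : Fin 6) : Fin 6 → F) - e (1 : Fin 6))
local notation "vx" => ((e (0 : Fin 6) : Fin 6 → F) + e (1 : Fin 6))

theorem vx_dot : vx ⬝ᵥ vx = 2 := by simp [add_dotProduct, dotProduct_add, e_dot_e]; norm_num

theorem va_dot : va ⬝ᵥ va = 2 := root_dot_sub (by decide)

theorem dot_vx (u : V6) : u ⬝ᵥ vx = u 0 + u 1 := by rw [dotProduct_add, dot_e, dot_e]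

theorem dot_va (u : V6) : u ⬝ᵥ va = u 0 - u 1 := by rw [dotProduct_sub, dot_e, dot_e]

theorem va_vx : va ⬝ᵥ vx = 0 := by rw [dot_vx]; simp [e]

theorem refl_inj (h2 : (2 : F) ≠ 0) {v w : V6} (hv : v ⬝ᵥ v = 2) (hw : w ⬝ᵥ w = 2) (h : refl v = refl w) :
    v = w ∨ v = -w := by
  have h1 := congrArg (· *ᵥ v) h
  change refl v *ᵥ v = refl w *ᵥ v at h1
  rw [refl_self (by rw [hv]; exact h2), refl_mulVec, hw, mul_div_cancel_left₀ _ h2] at h1
  have e1 : v = ((w ⬝ᵥ v) / 2) • w := by
    funext k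
    have := congrFun h1 k
    simp at this ⊢
    field_simp
    linear_combination -this
  have h3 := hv
  rw [e1, smul_dotProduct, dotProduct_smul, hw, smul_eq_mul, smul_eq_mul] at h3
  rcases mul_self_eq_one_iff.mp (mul_right_cancel₀ h2 (show (w ⬝ᵥ v) / 2 * ((w ⬝ᵥ v) / 2) * 2 = 1 * 2 by
    linear_combination h3)) with h4 | h4
  · left; rw [e1, h4, one_smul]
  · right; rw [e1, h4, neg_one_smul]

theorem refl_conj_of_dot {A : M6} (hA : ∀ x y : V6, (A *ᵥ x) ⬝ᵥ (A *ᵥ y) = x ⬝ᵥ y) (u : V6) :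
    A * refl u = refl (A *ᵥ u) * A := by
  refine mat_ext fun k => ?_
  rw [← Matrix.mulVec_mulVec, ← Matrix.mulVec_mulVec, refl_mulVec, refl_mulVec, hA, hA, Matrix.mulVec_sub,
    Matrix.mulVec_smul]

theorem refl2_fix {u v z : V6} (hv : v ⬝ᵥ z = 0) (hu : u ⬝ᵥ z = 0) : (refl u * refl v) *ᵥ z = z := by
  rw [← Matrix.mulVec_mulVec, refl_fix hv, refl_fix hu]

theorem refl_dot {u : V6} (hu : u ⬝ᵥ u ≠ 0) (x y : V6) : (refl u *ᵥ x) ⬝ᵥ (refl u *ᵥ y) = x ⬝ᵥ y := by
  rw [Matrix.dotProduct_mulVec, ← Matrix.mulVec_transpose, refl_transpose, Matrix.mulVec_mulVec, refl_sq hu,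
    Matrix.one_mulVec]

/-- Two involutions exchanged by a third: the middle one of their dihedral group, or its central involution. -/
theorem dihedral_middle {H : Type*} [Group H] {a b m : H} (ha : a * a = 1) (hb : b * b = 1) (hm : m * m = 1)
    (hab : m * a * m = b) (hodd : Odd (orderOf (a * b))) :
    ∃ j : ℕ, m * ((a * b) ^ j * a * ((a * b) ^ j)⁻¹) = (a * b) ^ j * a * ((a * b) ^ j)⁻¹ * m := by
  obtain ⟨s, hs⟩ := hodd
  refine ⟨2 * s * (s + 1) ^ 2, ?_⟩
  have hai : a⁻¹ = a := inv_eq_of_mul_eq_one_left ha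
  have hbi : b⁻¹ = b := inv_eq_of_mul_eq_one_left hb
  have hmi : m⁻¹ = m := inv_eq_of_mul_eq_one_left hm
  have hba : m * b * m⁻¹ = a := by rw [← hab, hmi, ← mul_assoc, ← mul_assoc, hm, one_mul, mul_assoc, hm, mul_one]
  set R := a * b with hR
  set j := 2 * s * (s + 1) ^ 2 with hj
  have hconj : m * R * m⁻¹ = R⁻¹ := by
    rw [hR, _root_.mul_inv_rev, hai, hbi]
    calc m * (a * b) * m⁻¹ = (m * a * m⁻¹) * (m * b * m⁻¹) := by group
      _ = b * a := by rw [hba, hmi, hab]
  have haR : a * R * a⁻¹ = R⁻¹ := by rw [hR, _root_.mul_inv_rev, hai, hbi, ← mul_assoc a a b, ha, one_mul]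
  have haRj : ∀ t : ℕ, a * R ^ t * a⁻¹ = (R ^ t)⁻¹ := fun t => by rw [← conj_pow, haR, inv_pow]
  have hX : R ^ j * a * (R ^ j)⁻¹ = R ^ (2 * j) * a := by
    rw [← haRj j, hai, two_mul, pow_add]
    simp only [← mul_assoc]
    rw [mul_assoc (R ^ j) a a, ha, mul_one]
  have hmX : m * (R ^ (2 * j) * a) * m⁻¹ = (R ^ (2 * j + 1))⁻¹ * a := by
    have hma : m * a * m⁻¹ = R⁻¹ * a := by
      rw [hmi, hab, hR, _root_.mul_inv_rev, hai, hbi, mul_assoc, ha, mul_one]
    calc m * (R ^ (2 * j) * a) * m⁻¹ = (m * R ^ (2 * j) * m⁻¹) * (m * a * m⁻¹) := by group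
      _ = (R ^ (2 * j + 1))⁻¹ * a := by
        rw [← conj_pow, hconj, hma, inv_pow, pow_succ', _root_.mul_inv_rev R, mul_assoc]
  have h1 : R ^ (2 * j + 1) * R ^ (2 * j) = 1 := by
    rw [← pow_add]
    refine orderOf_dvd_iff_pow_eq_one.mp ?_
    rw [hs]
    exact ⟨4 * s ^ 2 + 6 * s + 1, by rw [hj]; ring⟩
  rw [hX]
  calc m * (R ^ (2 * j) * a) = m * (R ^ (2 * j) * a) * m⁻¹ * m := by group
    _ = R ^ (2 * j) * a * m := by rw [hmX, inv_eq_of_mul_eq_one_right h1]

theorem sum_six {k l m n : Fin 6} (h : Function.Injective ![(0 : Fin 6), 1, k, l, m, n]) (f : Fin 6 → F) :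
    ∑ i, f i = f 0 + f 1 + f k + f l + f m + f n := by
  rw [← (Finite.injective_iff_bijective.mp h).sum_comp f]
  simp [Fin.sum_univ_succ]
  ring

/-- An ordering of the last four indices. -/
def Four (k l m n : Fin 6) : Prop := Function.Injective ![(0 : Fin 6), 1, k, l, m, n]

instance (k l m n : Fin 6) : Decidable (Four k l m n) := by unfold Four; infer_instance

theorem four_facts : ∀ k l m n : Fin 6, Four k l m n →
    k ≠ 0 ∧ k ≠ 1 ∧ l ≠ 0 ∧ l ≠ 1 ∧ m ≠ 0 ∧ m ≠ 1 ∧ n ≠ 0 ∧ n ≠ 1 ∧ k ≠ l ∧ k ≠ m ∧ k ≠ n ∧ l ≠ m ∧ l ≠ n ∧ m ≠ n ∧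
      Four k m l n ∧ Four k n l m ∧ Four l k m n ∧ Four k l n m := by
  decide +kernel

namespace Kl

variable {C : Kl F}

/-- Vectors of the class of `x` orthogonal to the root whose pair with `x` lies in the overgroup. -/
structure Good (C : Kl F) (G : Subgroup G4) (u : V6) : Prop where
  eq01 : u 0 = u 1
  norm : u ⬝ᵥ u = 2
  mem : C.L u vx ∈ G

theorem Good.ne {G : Subgroup G4} {u : V6} (hu : Good C G u) : u ⬝ᵥ u ≠ 0 := by rw [hu.norm]; exact C.two

theorem Good.dot_va {G : Subgroup G4} {u : V6} (hu : Good C G u) : u ⬝ᵥ va = 0 := by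
  rw [KleinSix.dot_va, hu.eq01, sub_self]

theorem Good.eq_vx {G : Subgroup G4} {u : V6} (hu : Good C G u) : u ⬝ᵥ vx = 2 * u 0 := by
  rw [dot_vx, ← hu.eq01, two_mul]

theorem Good.act_L {G : Subgroup G4} {u : V6} (hu : Good C G u) :
    C.act (C.L u vx : M4) = refl u * refl vx := C.act_L (hu.norm.trans vx_dot.symm) hu.ne

theorem act_mul_refl {g : G4} (hd : (g : M4).det = 1) (u : V6) :
    C.act (g : M4) * refl u = refl (C.act (g : M4) *ᵥ u) * C.act (g : M4) := refl_conj_of_dot (C.act_dot hd) u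

/-- A monomial element fixing the root maps the other one to itself up to sign. -/
theorem mono_vx {g : G4} (hd : (g : M4).det = 1) (hm : C.Mono g) (ha : C.act (g : M4) *ᵥ va = va) :
    C.act (g : M4) *ᵥ vx = vx ∨ C.act (g : M4) *ᵥ vx = -vx := by
  obtain ⟨π, ε, hε, hp⟩ := IsMono.perm hm (C.act_orth hd)
  rw [Matrix.mulVec_sub, hp, hp] at ha
  rw [Matrix.mulVec_add, hp, hp]
  have hne : π 0 ≠ π 1 := π.injective.ne (by decide)
  have h0 := congrFun ha (π 0)
  have h1 := congrFun ha (π 1)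
  simp [e, hne, hne.symm] at h0 h1
  generalize π 0 = p at *
  generalize π 1 = q at *
  by_cases hp0 : p = 0
  · subst hp0
    simp at h0
    by_cases hq : q = 1
    · subst hq; simp at h1; left; rw [h0, h1, one_smul, one_smul]
    · simp [hne.symm, hq] at h1; exact (sq_one (hε 1) h1).elim
  by_cases hp1 : p = 1
  · subst hp1
    simp at h0
    by_cases hq : q = 0
    · subst hq; simp at h1
      right
      rw [h0, show ε 1 = -1 by linear_combination -h1]
      module
    · simp [hne.symm, hq] at h1; exact (sq_one (hε 1) h1).elim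
  · simp [hp0, hp1] at h0; exact (sq_one (hε 0) h0).elim

variable [Fintype F]

/-- An element fixing the root and the other one up to sign is monomial. -/
theorem mono_of_both (hp : (Fintype.card F).Prime) (hodd : Odd (Fintype.card F)) {G : Subgroup G4} (hG : Over C G)
    {g : G4} (hg : g ∈ G) (ha : C.act (g : M4) *ᵥ va = va)
    (hx : C.act (g : M4) *ᵥ vx = vx ∨ C.act (g : M4) *ᵥ vx = -vx) : C.Mono g := by
  refine mono_of_axis hp hodd hG hg (k := 0) ?_
  have e0 : (e 0 : V6) = (2 : F)⁻¹ • (va + vx) := by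
    rw [show va + vx = (2 : F) • (e 0 : V6) by module, smul_smul, inv_mul_cancel₀ C.two, one_smul]
  rw [e0, Matrix.mulVec_smul, Matrix.mulVec_add, ha]
  refine Axis.smul ?_ _
  rcases hx with hx | hx <;> rw [hx]
  · exact ⟨0, 2, by module⟩
  · exact ⟨1, -2, by module⟩

variable {G : Subgroup (GL (Fin 4) F)} (hp : (Fintype.card F).Prime) (hodd : Odd (Fintype.card F)) (hG : Over C G)

include hG in
theorem vx_va_mem : C.L va vx ∈ G := hG.mono _ (C.L_det _ _) (by
  rw [Mono, C.act_L (va_dot.trans vx_dot.symm) (by rw [va_dot]; exact C.two)]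
  refine (isMono_refl_swap C.two (by decide)).mul ?_
  have := isMono_refl_root (F := F) C.two (a := 0) (b := 1) (by decide) (s := 1) (mul_one 1)
  rwa [one_smul] at this)

include hG in
theorem Good.map {u : V6} (hu : Good C G u) {g : G4} (hg : g ∈ G) (ha : C.act (g : M4) *ᵥ va = va) :
    Good C G (C.act (g : M4) *ᵥ u) := by
  have hd := hG.det g hg
  set x' := C.act (g : M4) *ᵥ vx with hx'
  have hx2 : x' ⬝ᵥ x' = 2 := by rw [hx', C.act_dot hd, vx_dot]
  have hu2 : (C.act (g : M4) *ᵥ u) ⬝ᵥ (C.act (g : M4) *ᵥ u) = 2 := by rw [C.act_dot hd, hu.norm]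
  have h2 := C.two
  have h1 : C.L (C.act (g : M4) *ᵥ u) x' ∈ G := by
    rw [← C.L_conj hd (hu.norm.trans vx_dot.symm) hu.ne]
    exact G.mul_mem (G.mul_mem hg hu.mem) (G.inv_mem hg)
  have h3 : C.L va x' ∈ G := by
    have := C.L_conj hd (va_dot.trans vx_dot.symm) (by rw [va_dot]; exact h2)
    rw [ha] at this
    rw [← this]
    exact G.mul_mem (G.mul_mem hg (vx_va_mem hG)) (G.inv_mem hg)
  have h4 : C.L x' vx ∈ G := by
    rw [← C.L_mul (hx2.trans va_dot.symm) (va_dot.trans vx_dot.symm) (by rw [hx2]; exact h2),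
      ← C.L_inv (va_dot.trans hx2.symm) (by rw [va_dot]; exact h2)]
    exact G.mul_mem (G.inv_mem h3) (vx_va_mem hG)
  refine ⟨?_, hu2, ?_⟩
  · rw [← sub_eq_zero, ← KleinSix.dot_va, ← ha, C.act_dot hd, hu.dot_va]
  · rw [← C.L_mul (hu2.trans hx2.symm) (hx2.trans vx_dot.symm) (by rw [hu2]; exact h2)]
    exact G.mul_mem h1 h4

include hG in
/-- Elements reversing the root and fixing the other one preserve the class. -/
theorem Good.map_rev {u : V6} (hu : Good C G u) {g : G4} (hg : g ∈ G) (ha : C.act (g : M4) *ᵥ va = -va)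
    (hx : C.act (g : M4) *ᵥ vx = vx) : Good C G (C.act (g : M4) *ᵥ u) := by
  have hd := hG.det g hg
  have hu2 : (C.act (g : M4) *ᵥ u) ⬝ᵥ (C.act (g : M4) *ᵥ u) = 2 := by rw [C.act_dot hd, hu.norm]
  refine ⟨?_, hu2, ?_⟩
  · rw [← sub_eq_zero, ← KleinSix.dot_va, ← neg_eq_zero, ← dotProduct_neg, ← ha, C.act_dot hd, hu.dot_va]
  · have := C.L_conj hd (hu.norm.trans vx_dot.symm) hu.ne
    rw [hx] at this
    rw [← this]
    exact G.mul_mem (G.mul_mem hg hu.mem) (G.inv_mem hg)

include hG in
theorem good_root {k l : Fin 6} (hkl : k ≠ l) (hk0 : k ≠ 0) (hk1 : k ≠ 1) (hl0 : l ≠ 0) (hl1 : l ≠ 1) {s : F}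
    (hs : s * s = 1) : Good C G (e k + s • e l) := by
  have hn := root_dot hkl hs
  refine ⟨by simp [e, hk0.symm, hl0.symm, hk1.symm, hl1.symm], hn, hG.mono _ (C.L_det _ _) ?_⟩
  rw [Mono, C.act_L (hn.trans vx_dot.symm) (by rw [hn]; exact C.two)]
  refine (isMono_refl_root C.two hkl hs).mul ?_
  have := isMono_refl_root (F := F) C.two (a := 0) (b := 1) (by decide) (s := 1) (mul_one 1)
  rwa [one_smul] at this

include hG in
theorem Good.reflect {u v : V6} (hu : Good C G u) (hv : Good C G v) : Good C G (refl u *ᵥ v) := by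
  refine ⟨?_, by rw [refl_dot hu.ne, hv.norm], ?_⟩
  · rw [refl_mulVec]; simp [hu.eq01, hv.eq01]
  · rw [C.L_reflect (hu.norm.trans hv.norm.symm) (hu.norm.trans vx_dot.symm) hu.ne]
    refine hG.neg_mem (G.mul_mem ?_ hu.mem)
    rw [← C.L_mul (hu.norm.trans vx_dot.symm) (vx_dot.trans hv.norm.symm) hu.ne,
      ← C.L_inv (hv.norm.trans vx_dot.symm) hv.ne]
    exact G.mul_mem hu.mem (G.inv_mem hv.mem)

theorem Good.fix_va {u : V6} (hu : Good C G u) : C.act (C.L u vx : M4) *ᵥ va = va := by
  rw [hu.act_L, refl2_fix (by rw [dotProduct_comm]; exact va_vx) hu.dot_va]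

/-- The vectors with a monomial pair. -/
theorem Good.classify {u : V6} (hu : Good C G u) (hm : C.Mono (C.L u vx)) :
    (u = vx ∨ u = -vx) ∨ (u 0 = 0 ∧ (∀ k l m, k ≠ l → k ≠ m → l ≠ m → u k ≠ 0 → u l ≠ 0 → u m = 0) ∧
      ∀ k l, k ≠ l → u k ≠ 0 → u l ≠ 0 → u k * u k = 1) := by
  have h2 := C.two
  have hx0 : vx ⬝ᵥ vx ≠ (0 : F) := by rw [vx_dot]; exact h2
  have hxx := mono_vx (C.L_det _ _) hm hu.fix_va
  rw [hu.act_L, ← Matrix.mulVec_mulVec, refl_self hx0, Matrix.mulVec_neg, refl_mulVec, hu.norm, hu.eq_vx,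
    mul_div_cancel_left₀ _ h2, neg_sub] at hxx
  by_cases h0 : u 0 = 0
  · right
    refine ⟨h0, ?_⟩
    have hmu : IsMono (refl u) := by
      have := IsMono.mul (show IsMono (C.act (C.L u vx : M4)) from hm)
        (B := refl vx) (by
          have := isMono_refl_root (F := F) h2 (a := 0) (b := 1) (by decide) (s := 1) (mul_one 1)
          rwa [one_smul] at this)
      rwa [hu.act_L, mul_assoc, refl_sq hx0, mul_one] at this
    have hcol : ∀ k l, (refl u *ᵥ (e k : V6)) l = (if l = k then 1 else 0) - u k * u l := fun k l => by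
      rw [refl_mulVec, hu.norm, dot_e, mul_div_cancel_left₀ _ h2]
      simp [e, Pi.single_apply]
    refine ⟨fun k l m hkl hkm hlm hk hl => ?_, fun k l hkl hk hl => ?_⟩
    · rcases (hmu k).two_coords hlm with h | h <;> rw [hcol] at h
      · simp [hkl.symm, hk, hl] at h
      · simpa [hkm.symm, hk] using h
    · rcases (hmu k).two_coords hkl with h | h <;> rw [hcol] at h
      · simp at h; linear_combination -h
      · simp [hkl.symm, hk, hl] at h
  left
  rcases hxx with h | h
  · obtain ⟨c, hc⟩ : ∃ c, c = u 0 := ⟨_, rfl⟩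
    rw [← hc] at h h0
    have e1 : u = c⁻¹ • vx := by
      have : (2 * c) • u = (2 : F) • vx := by linear_combination (norm := module) h
      rw [← inv_smul_smul₀ (mul_ne_zero h2 h0) u, this, smul_smul]
      congr 1
      field_simp
    have h3 := hu.norm
    rw [e1, smul_dotProduct, dotProduct_smul, vx_dot, smul_eq_mul, smul_eq_mul] at h3
    rcases mul_self_eq_one_iff.mp (mul_right_cancel₀ h2 (show c⁻¹ * c⁻¹ * 2 = 1 * 2 by
      linear_combination h3)) with h4 | h4
    · left; rw [e1, h4, one_smul]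
    · right; rw [e1, h4, neg_one_smul]
  · exfalso
    have h3 : (2 * u 0) • u = 0 := by linear_combination (norm := module) h
    rcases smul_eq_zero.mp h3 with h4 | h4
    · exact mul_ne_zero h2 h0 h4
    · exact h0 (by rw [h4]; rfl)

include hp hodd hG in
theorem Good.mono_of_zero {u : V6} (hu : Good C G u) {k : Fin 6} (hk0 : k ≠ 0) (hk1 : k ≠ 1) (h : u k = 0) :
    C.Mono (C.L u vx) := by
  refine mono_of_axis hp hodd hG hu.mem (k := k) ?_
  rw [hu.act_L, refl2_fix (by rw [dot_e]; simp [e, hk0, hk1]) (by rw [dot_e, h])]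
  exact axis_e k

include hp hodd hG in
theorem Good.nonzero {u : V6} (hu : Good C G u) (h0 : u 0 ≠ 0) {j : Fin 6} (hj0 : j ≠ 0) (hj1 : j ≠ 1)
    (hj : u j ≠ 0) (k : Fin 6) : u k ≠ 0 := by
  intro hk
  by_cases hk0 : k = 0
  · exact h0 (hk0 ▸ hk)
  by_cases hk1 : k = 1
  · exact h0 (hu.eq01.trans (hk1 ▸ hk))
  rcases hu.classify (hu.mono_of_zero hp hodd hG hk0 hk1 hk) with (h | h) | ⟨h, -⟩
  · exact hj (by rw [h]; simp [e, hj0, hj1])
  · exact hj (by rw [h]; simp [e, hj0, hj1])
  · exact h0 h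

include hp hodd hG in
/-- Of a partition of the last four coordinates one pair has equal squares. -/
theorem Good.dichotomy {u : V6} (hu : Good C G u) (hnz : ∀ j, u j ≠ 0) {k l m n : Fin 6} (h4 : Four k l m n) :
    u k * u k = u l * u l ∨ u m * u m = u n * u n := by
  obtain ⟨hk0, hk1, hl0, hl1, hm0, hm1, hn0, hn1, hkl, hkm, hkn, hlm, hln, hmn, -⟩ := four_facts k l m n h4
  have h2 := C.two
  have hu0 := hu.ne
  set d := C.D k l with hd
  have hdd : (d : M4).det = 1 := C.L_det _ _
  set M : M6 := C.act (d : M4) with hM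
  have hMj : ∀ (z : V6) j, (M *ᵥ z) j = if j = k ∨ j = l then -z j else z j := C.D_apply hkl
  have hMa : M *ᵥ va = va := funext fun j => by
    rw [hMj]; split_ifs with h
    · rcases h with rfl | rfl <;> simp [e, hk0, hk1, hl0, hl1]
    · rfl
  set w := M *ᵥ u with hw
  have hwG : Good C G w := hu.map hG (hG.D_mem k l) hMa
  have hw2 : w ⬝ᵥ w = u ⬝ᵥ u := hwG.norm.trans hu.norm.symm
  set R := C.L u w with hR
  have hRm : R ∈ G := by
    rw [hR, ← C.L_mul (hu.norm.trans vx_dot.symm) (vx_dot.trans hwG.norm.symm) hu0,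
      ← C.L_inv (hwG.norm.trans vx_dot.symm) hwG.ne]
    exact G.mul_mem hu.mem (G.inv_mem hwG.mem)
  have hMM : M * M = 1 := by
    rw [hM, ← C.act_val_mul, hd, D, C.L_sq (by simp [e_dot_e]) (by simp [e_dot_e]) (by simp [e_dot_e, hkl]), C.act_neg,
      Units.val_one, C.act_one]
  let a6 : GL (Fin 6) F := ⟨refl u, refl u, refl_sq hu0, refl_sq hu0⟩
  let b6 : GL (Fin 6) F := ⟨refl w, refl w, refl_sq hwG.ne, refl_sq hwG.ne⟩
  let m6 : GL (Fin 6) F := ⟨M, M, hMM, hMM⟩
  have hab : m6 * a6 * m6 = b6 := Units.ext (by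
    show M * refl u * M = refl w
    rw [hM, act_mul_refl hdd, ← hM, ← hw, mul_assoc, hMM, mul_one])
  have hR6 : C.actU R = a6 * b6 := Units.ext (C.act_L hw2.symm hu0)
  have hpow : ∀ t : ℕ, C.act ((R ^ t : G4) : M4) = ((a6 * b6) ^ t : GL (Fin 6) F).val := fun t => by
    rw [← C.actU_val, map_pow, hR6]
  have hstep : ∀ z : V6, ∃ c d : F, (a6 * b6 : GL (Fin 6) F).val *ᵥ z = z + c • u + d • w := fun z => by
    rw [Units.val_mul, ← Matrix.mulVec_mulVec]
    show ∃ c d : F, refl u *ᵥ (refl w *ᵥ z) = _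
    rw [refl_mulVec w z]
    generalize 2 * (w ⬝ᵥ z) / (w ⬝ᵥ w) = t
    rw [refl_mulVec u]
    exact ⟨-(2 * (u ⬝ᵥ (z - t • w)) / (u ⬝ᵥ u)), -t, by module⟩
  have hspan : ∀ (t : ℕ) (z : V6), ∃ c d : F, C.act ((R ^ t : G4) : M4) *ᵥ z = z + c • u + d • w := by
    intro t
    induction t with
    | zero => exact fun z => ⟨0, 0, by simp [C.act_one]⟩
    | succ t ih =>
      intro z
      obtain ⟨c, d, h⟩ := hstep z
      obtain ⟨c1, d1, h1⟩ := ih (z + c • u + d • w)
      refine ⟨c + c1, d + d1, ?_⟩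
      rw [hpow, pow_succ, Units.val_mul, ← Matrix.mulVec_mulVec, h, ← hpow, h1]
      module
  have hRfix : ∀ t : ℕ, C.act ((R ^ t : G4) : M4) *ᵥ va = va := fun t => by
    induction t with
    | zero => simp [C.act_one]
    | succ t ih =>
      rw [pow_succ, C.act_val_mul, ← Matrix.mulVec_mulVec, C.act_L hw2.symm hu0, ← Matrix.mulVec_mulVec,
        refl_fix hwG.dot_va, refl_fix hu.dot_va, ih]
  rcases Nat.even_or_odd (orderOf (a6 * b6)) with heven | hod
  swap
  · -- a fixed vector of the exchange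
    left
    obtain ⟨j, hj⟩ := dihedral_middle (Units.ext (refl_sq hu0)) (Units.ext (refl_sq hwG.ne)) (Units.ext hMM) hab hod
    set A := C.act ((R ^ j : G4) : M4) with hA
    have hAd : ((R ^ j : G4) : M4).det = 1 := hG.det _ (G.pow_mem hRm j)
    set v := A *ᵥ u with hv
    have hvG : Good C G v := hu.map hG (G.pow_mem hRm j) (hRfix j)
    have hrv : ((a6 * b6) ^ j * a6 * ((a6 * b6) ^ j)⁻¹ : GL (Fin 6) F).val = refl v := by
      have : ((a6 * b6) ^ j * a6 : GL (Fin 6) F).val = refl v * ((a6 * b6) ^ j : GL (Fin 6) F).val := by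
        rw [Units.val_mul, ← hpow]; exact act_mul_refl hAd u
      rw [Units.val_mul, this, mul_assoc, Units.mul_inv, mul_one]
    have hcom : refl (M *ᵥ v) * M = refl v * M := by
      have := congrArg Units.val hj
      rw [Units.val_mul, Units.val_mul _ m6, hrv] at this
      rw [hM, ← act_mul_refl hdd]
      exact this
    have hrr : refl v = refl (M *ᵥ v) := by
      have := congrArg (· * M) hcom
      simpa only [mul_assoc, hMM, mul_one] using this.symm
    obtain ⟨c, d', hcd⟩ := hspan j u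
    have hvc : ∀ i, v i = (1 + c) * u i + d' * (if i = k ∨ i = l then -u i else u i) := fun i => by
      rw [hv, hA, hcd]
      simp [hw, hMj]
      ring
    have vk : v k = (1 + c - d') * u k := by rw [hvc]; simp; ring
    have vl : v l = (1 + c - d') * u l := by rw [hvc]; simp; ring
    have vm : v m = (1 + c + d') * u m := by rw [hvc]; simp [hkm.symm, hlm.symm]; ring
    have v0 : v 0 = (1 + c + d') * u 0 := by rw [hvc]; simp [hk0.symm, hl0.symm]; ring
    have half : ∀ {s : F}, s = -s → s = 0 := fun {s} h =>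
      (mul_eq_zero.mp (show (2 : F) * s = 0 by linear_combination h)).resolve_left h2
    have vne : v ≠ 0 := fun h => hvG.ne (by rw [h]; simp)
    rcases refl_inj h2 hvG.norm (by rw [hM, C.act_dot hdd, hvG.norm]) hrr with h | h
    · -- fixed
      exfalso
      have hk' : v k = 0 := half (by have := congrFun h k; rwa [hMj, if_pos (Or.inl rfl)] at this)
      have hc : 1 + c + d' ≠ 0 := fun h0 => by
        have h5 := (mul_eq_zero.mp (vk.symm.trans hk')).resolve_right (hnz k)
        apply vne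
        funext i
        rw [hvc i, Pi.zero_apply]
        have e1 : 1 + c = 0 := (mul_eq_zero.mp (show (2 : F) * (1 + c) = 0 by linear_combination h0 + h5)).resolve_left h2
        have e2 : d' = 0 := by linear_combination h0 - e1
        rw [e1, e2]; ring
      exact hvG.nonzero hp hodd hG (by rw [v0]; exact mul_ne_zero hc (hnz 0)) hm0 hm1
        (by rw [vm]; exact mul_ne_zero hc (hnz m)) k hk'
    · have hm' : v m = 0 := half (by
        have := congrFun h m
        rwa [Pi.neg_apply, hMj, if_neg (by simp [hkm.symm, hlm.symm])] at this)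
      have hc : 1 + c + d' = 0 := (mul_eq_zero.mp (vm.symm.trans hm')).resolve_right (hnz m)
      have hc' : 1 + c - d' ≠ 0 := fun h0 => by
        apply vne
        funext i
        rw [hvc i, Pi.zero_apply]
        have e1 : 1 + c = 0 := (mul_eq_zero.mp (show (2 : F) * (1 + c) = 0 by linear_combination h0 + hc)).resolve_left h2
        have e2 : d' = 0 := by linear_combination hc - e1
        rw [e1, e2]; ring
      have hk' : v k ≠ 0 := by rw [vk]; exact mul_ne_zero hc' (hnz k)
      have hl' : v l ≠ 0 := by rw [vl]; exact mul_ne_zero hc' (hnz l)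
      rcases hvG.classify (hvG.mono_of_zero hp hodd hG hm0 hm1 hm') with (h' | h') | ⟨-, -, hsq⟩
      · exact absurd (by rw [h']; simp [e, hk0, hk1]) hk'
      · exact absurd (by rw [h']; simp [e, hk0, hk1]) hk'
      · have e1 := hsq k l hkl hk' hl'
        have e2 := hsq l k hkl.symm hl' hk'
        rw [vk] at e1
        rw [vl] at e2
        exact mul_left_cancel₀ (mul_ne_zero hc' hc') (by linear_combination e1 - e2)
  · -- the central involution
    right
    obtain ⟨s, hs⟩ := heven
    have hnpos : 0 < orderOf (a6 * b6) := orderOf_pos _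
    set T := C.act ((R ^ s : G4) : M4) with hT
    have hTd : ((R ^ s : G4) : M4).det = 1 := hG.det _ (G.pow_mem hRm s)
    have hTT : T * T = 1 := by
      rw [hT, hpow, ← Units.val_mul, ← pow_add, ← hs, pow_orderOf_eq_one, Units.val_one]
    have hT1 : T ≠ 1 := fun h => by
      rw [hT, hpow, ← Units.val_one] at h
      have := orderOf_le_of_pow_eq_one (show 0 < s by omega) (Units.ext h)
      omega
    have hTinv : ((a6 * b6) ^ s)⁻¹ = (a6 * b6) ^ s :=
      inv_eq_of_mul_eq_one_left (by rw [← pow_add, ← hs, pow_orderOf_eq_one])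
    have hai : a6⁻¹ = a6 := Units.ext rfl
    have hbi : b6⁻¹ = b6 := Units.ext rfl
    have hmi : m6⁻¹ = m6 := Units.ext rfl
    have hTu : a6 * (a6 * b6) ^ s * a6⁻¹ = (a6 * b6) ^ s := by
      rw [← conj_pow, ← mul_assoc, show a6 * a6 = 1 from Units.ext (refl_sq hu0), one_mul]
      rw [show b6 * a6⁻¹ = (a6 * b6)⁻¹ by rw [_root_.mul_inv_rev, hbi], inv_pow, hTinv]
    have hTm : m6 * (a6 * b6) ^ s * m6⁻¹ = (a6 * b6) ^ s := by
      have h1 : m6 * (a6 * b6) * m6⁻¹ = (a6 * b6)⁻¹ := by
        rw [hmi, _root_.mul_inv_rev, hai, hbi, ← hab]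
        simp only [mul_assoc]
        rw [show m6 * m6 = 1 from Units.ext hMM]
        simp [show ∀ z : GL (Fin 6) F, m6 * (m6 * z) = z from fun z => by
          rw [← mul_assoc, show m6 * m6 = 1 from Units.ext hMM, one_mul]]
      rw [← conj_pow, h1, inv_pow, hTinv]
    have hcu : refl (T *ᵥ u) = refl u := by
      have h1 := congrArg Units.val (mul_inv_eq_iff_eq_mul.mp hTu)
      rw [Units.val_mul, Units.val_mul, ← hpow, ← hT] at h1
      have h3 : T * refl u = refl u * T := h1.symm
      rw [hT, act_mul_refl hTd, ← hT] at h3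
      have := congrArg (· * T) h3
      simpa only [mul_assoc, hTT, mul_one] using this
    have hcm : ∀ z, T *ᵥ (M *ᵥ z) = M *ᵥ (T *ᵥ z) := fun z => by
      have h1 := congrArg Units.val (mul_inv_eq_iff_eq_mul.mp hTm)
      rw [Units.val_mul, Units.val_mul, ← hpow, ← hT] at h1
      rw [Matrix.mulVec_mulVec, Matrix.mulVec_mulVec]
      exact congrArg (· *ᵥ z) h1.symm
    have hTneg : T *ᵥ u = -u ∧ T *ᵥ w = -w := by
      rcases refl_inj h2 (by rw [hT, C.act_dot hTd, hu.norm]) hu.norm hcu with h | h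
      swap
      · exact ⟨h, by rw [hw, hcm, h, Matrix.mulVec_neg]⟩
      exfalso
      apply hT1
      have hTw : T *ᵥ w = w := by rw [hw, hcm, h]
      refine mat_ext fun i => ?_
      rw [Matrix.one_mulVec]
      obtain ⟨c, d', hcd⟩ := hspan s (e i)
      rw [← hT] at hcd
      have h5 := congrArg (T *ᵥ ·) hcd
      simp only [Matrix.mulVec_mulVec _ T T, hTT, Matrix.one_mulVec, Matrix.mulVec_add, Matrix.mulVec_smul, h, hTw] at h5
      funext j
      have e5 := congrFun h5 j
      have e6 := congrFun hcd j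
      simp at e5 e6 ⊢
      exact mul_left_cancel₀ h2 (by linear_combination e6 - e5)
    obtain ⟨hTu', hTw'⟩ := hTneg
    set ν := u + w with hν
    set b := u - w with hb
    have hTν : T *ᵥ ν = -ν := by rw [hν, Matrix.mulVec_add, hTu', hTw']; abel
    have hTb : T *ᵥ b = -b := by rw [hb, Matrix.mulVec_sub, hTu', hTw']; abel
    have hνj : ∀ i, ν i = if i = k ∨ i = l then 0 else 2 * u i := fun i => by
      simp only [hν, hw, Pi.add_apply, hMj]; split_ifs <;> ring
    have hbj : ∀ i, b i = if i = k ∨ i = l then 2 * u i else 0 := fun i => by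
      simp only [hb, hw, Pi.sub_apply, hMj]; split_ifs <;> ring
    have hνb : ν ⬝ᵥ b = 0 := by
      refine Finset.sum_eq_zero fun i _ => ?_
      rw [hνj, hbj]; split_ifs <;> simp
    have fixed : ∀ z : V6, u ⬝ᵥ z = 0 → w ⬝ᵥ z = 0 → T *ᵥ z = z := fun z hz hz' => by
      rw [hT]
      induction s generalizing z with
      | zero => simp [C.act_one]
      | succ t _ => exact (show ∀ t : ℕ, C.act ((R ^ t : G4) : M4) *ᵥ z = z from fun t => by
          induction t with
          | zero => simp [C.act_one]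
          | succ t ih => rw [pow_succ, C.act_val_mul, ← Matrix.mulVec_mulVec, C.act_L hw2.symm hu0,
              ← Matrix.mulVec_mulVec, refl_fix hz', refl_fix hz, ih]) _
    have hwu : w ⬝ᵥ u = u ⬝ᵥ w := dotProduct_comm w u
    have hN : ν ⬝ᵥ ν ≠ 0 := fun h => by
      have hs0 : (2 : F) * (u ⬝ᵥ u + u ⬝ᵥ w) = 0 := by
        rw [hν, add_dotProduct, dotProduct_add, dotProduct_add, hwu, hw2] at h
        linear_combination h
      have hs1 := (mul_eq_zero.mp hs0).resolve_left h2
      have h5 := fixed ν (by rw [hν, dotProduct_add, hs1]) (by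
        rw [hν, dotProduct_add, hwu, hw2]; linear_combination hs1)
      rw [hTν] at h5
      have := congrFun h5 0
      simp [hνj, hk0.symm, hl0.symm] at this
      exact hnz 0 ((mul_eq_zero.mp (show (2 : F) * (2 * u 0) = 0 by linear_combination -this)).resolve_left h2
        |> fun h => (mul_eq_zero.mp h).resolve_left h2)
    have hB : b ⬝ᵥ b ≠ 0 := fun h => by
      have hs0 : (2 : F) * (u ⬝ᵥ u - u ⬝ᵥ w) = 0 := by
        rw [hb, sub_dotProduct, dotProduct_sub, dotProduct_sub, hwu, hw2] at h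
        linear_combination h
      have hs1 := (mul_eq_zero.mp hs0).resolve_left h2
      have h5 := fixed b (by rw [hb, dotProduct_sub, hs1]) (by
        rw [hb, dotProduct_sub, hwu, hw2]; linear_combination -hs1)
      rw [hTb] at h5
      have := congrFun h5 k
      simp [hbj] at this
      exact hnz k ((mul_eq_zero.mp (show (2 : F) * (2 * u k) = 0 by linear_combination -this)).resolve_left h2
        |> fun h => (mul_eq_zero.mp h).resolve_left h2)
    have hTeq : T = refl ν * refl b := by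
      refine mat_ext fun i => ?_
      obtain ⟨c, d', hcd⟩ := hspan s (e i)
      rw [← hT] at hcd
      set z : V6 := e i with hz
      have hz' : T *ᵥ z = z + ((c + d') / 2) • ν + ((c - d') / 2) • b := by
        rw [hcd, hν, hb]; match_scalars <;> field_simp <;> ring
      have hbν : b ⬝ᵥ ν = 0 := by rw [dotProduct_comm, hνb]
      have q1 : (T *ᵥ z) ⬝ᵥ (T *ᵥ ν) = z ⬝ᵥ ν := by rw [hT, C.act_dot hTd]
      have q2 : (T *ᵥ z) ⬝ᵥ (T *ᵥ b) = z ⬝ᵥ b := by rw [hT, C.act_dot hTd]
      rw [hTν, dotProduct_neg, hz'] at q1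
      rw [hTb, dotProduct_neg, hz'] at q2
      simp only [add_dotProduct, smul_dotProduct, hνb, hbν, smul_eq_mul, mul_zero, add_zero] at q1 q2
      rw [hz', ← Matrix.mulVec_mulVec, refl_mulVec b, Matrix.mulVec_sub, Matrix.mulVec_smul, refl_mulVec ν z,
        refl_fix hνb, dotProduct_comm ν z, dotProduct_comm b z]
      have e1 : (c + d') / 2 = -(2 * (z ⬝ᵥ ν) / (ν ⬝ᵥ ν)) := by
        rw [eq_neg_iff_add_eq_zero, div_add_div _ _ h2 hN, div_eq_zero_iff]; left
        linear_combination (norm := (field_simp; ring)) -(2 : F) * q1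
      have e2 : (c - d') / 2 = -(2 * (z ⬝ᵥ b) / (b ⬝ᵥ b)) := by
        rw [eq_neg_iff_add_eq_zero, div_add_div _ _ h2 hB, div_eq_zero_iff]; left
        linear_combination (norm := (field_simp; ring)) -(2 : F) * q2
      rw [e1, e2]
      module
    have h01 : (0 : Fin 6) ≠ 1 := by decide
    set t := C.sw 0 1 m n with ht
    have htd : (t : M4).det = 1 := C.L_det _ _
    have htm : t ∈ G := hG.sw_mem h01 hmn
    set ν' := C.act (t : M4) *ᵥ ν with hν'
    have hperm : ∀ z : V6, ∀ i, (C.act (t : M4) *ᵥ z) i = z (Equiv.swap m n (Equiv.swap 0 1 i)) := fun z i => by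
      have hi : C.act (t : M4) *ᵥ (e (Equiv.swap m n (Equiv.swap 0 1 i)) : V6) = e i := by
        rw [C.sw_e h01 hmn, Equiv.swap_apply_self, Equiv.swap_apply_self]
      have := C.act_dot htd z (e (Equiv.swap m n (Equiv.swap 0 1 i)))
      rwa [hi, dot_e, dot_e] at this
    have hν'm : ν' m = 2 * u n := by
      rw [hν', hperm, Equiv.swap_apply_of_ne_of_ne hm0 hm1, Equiv.swap_apply_left, hνj,
        if_neg (by simp [hkn.symm, hln.symm])]
    have hν'n : ν' n = 2 * u m := by
      rw [hν', hperm, Equiv.swap_apply_of_ne_of_ne hn0 hn1, Equiv.swap_apply_right, hνj,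
        if_neg (by simp [hkm.symm, hlm.symm])]
    have hν'k : ν' k = 0 := by
      rw [hν', hperm, Equiv.swap_apply_of_ne_of_ne hk0 hk1, Equiv.swap_apply_of_ne_of_ne hkm hkn, hνj, if_pos (Or.inl rfl)]
    have hν'0 : ν' 0 = 2 * u 0 := by
      rw [hν', hperm, Equiv.swap_apply_left, Equiv.swap_apply_of_ne_of_ne hm1.symm hn1.symm, hνj,
        if_neg (by simp [hk1.symm, hl1.symm]), ← hu.eq01]
    have hν'1 : ν' 1 = 2 * u 0 := by
      rw [hν', hperm, Equiv.swap_apply_right, Equiv.swap_apply_of_ne_of_ne hm0.symm hn0.symm, hνj,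
        if_neg (by simp [hk0.symm, hl0.symm])]
    have hbt : C.act (t : M4) *ᵥ b = b := funext fun i => by
      rw [hperm]
      simp only [hbj]
      by_cases hik : i = k
      · rw [hik, Equiv.swap_apply_of_ne_of_ne hk0 hk1, Equiv.swap_apply_of_ne_of_ne hkm hkn]
      by_cases hil : i = l
      · rw [hil, Equiv.swap_apply_of_ne_of_ne hl0 hl1, Equiv.swap_apply_of_ne_of_ne hlm hln]
      rw [if_neg (show ¬(i = k ∨ i = l) by simp [hik, hil]), if_neg ?_]
      rintro (h | h)
      · exact hik (by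
          have := congrArg (Equiv.swap (0 : Fin 6) 1) (congrArg (Equiv.swap m n) h)
          rwa [Equiv.swap_apply_self, Equiv.swap_apply_self, Equiv.swap_apply_of_ne_of_ne hkm hkn,
            Equiv.swap_apply_of_ne_of_ne hk0 hk1] at this)
      · exact hil (by
          have := congrArg (Equiv.swap (0 : Fin 6) 1) (congrArg (Equiv.swap m n) h)
          rwa [Equiv.swap_apply_self, Equiv.swap_apply_self, Equiv.swap_apply_of_ne_of_ne hlm hln,
            Equiv.swap_apply_of_ne_of_ne hl0 hl1] at this)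
    have hbν' : b ⬝ᵥ ν' = 0 := by
      rw [← hbt, hν', C.act_dot htd, dotProduct_comm, hνb]
    set g := R ^ s * (t * R ^ s * t⁻¹) with hg
    have hgm : g ∈ G := G.mul_mem (G.pow_mem hRm s) (G.mul_mem (G.mul_mem htm (G.pow_mem hRm s)) (G.inv_mem htm))
    have hact : C.act (g : M4) = refl ν * refl ν' := by
      rw [hg, C.act_val_mul, C.act_val_mul, C.act_val_mul, ← hT, hTeq, ← mul_assoc (C.act (t : M4)),
        act_mul_refl htd, mul_assoc (refl _) (C.act (t : M4)), act_mul_refl htd, hbt, ← hν']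
      rw [show refl ν' * (refl b * C.act (t : M4)) * C.act ((t⁻¹ : G4) : M4) = refl ν' * refl b by
        rw [mul_assoc, mul_assoc, ← C.act_val_mul, mul_inv_cancel, Units.val_one, C.act_one, mul_one]]
      rw [← mul_assoc, mul_assoc (refl ν) (refl b) (refl ν'), refl_conj_of_dot (refl_dot hB) ν', refl_fix hbν',
        ← mul_assoc (refl ν) (refl ν'), mul_assoc, refl_sq hB, mul_one]
    have hgmono : C.Mono g := by
      refine mono_of_axis hp hodd hG hgm (k := k) ?_
      rw [hact, refl2_fix (by rw [dot_e, hν'k]) (by rw [dot_e, hνj, if_pos (Or.inl rfl)])]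
      exact axis_e k
    have hga : C.act (g : M4) *ᵥ va = va := by
      rw [hact, refl2_fix (by rw [KleinSix.dot_va, hν'0, hν'1, sub_self])
        (by rw [KleinSix.dot_va, hνj, hνj, if_neg (by simp [hk0.symm, hl0.symm]),
          if_neg (by simp [hk1.symm, hl1.symm]), hu.eq01, sub_self])]
    have hy : ∀ i, i ≠ 0 → i ≠ 1 → (C.act (g : M4) *ᵥ vx) i = 0 := fun i hi0 hi1 => by
      rcases mono_vx (hG.det g hgm) hgmono hga with h | h <;> rw [h] <;> simp [e, hi0, hi1]
    set N := ν ⬝ᵥ ν with hNdef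
    have hN' : ν' ⬝ᵥ ν' = N := by rw [hν', C.act_dot htd]
    set D' := ν ⬝ᵥ ν' with hD'
    have hν'x : ν' ⬝ᵥ vx = 4 * u 0 := by rw [dot_vx, hν'0, hν'1]; ring
    have hνx : ν ⬝ᵥ vx = 4 * u 0 := by
      rw [dot_vx, hνj, hνj, if_neg (by simp [hk0.symm, hl0.symm]), if_neg (by simp [hk1.symm, hl1.symm]), ← hu.eq01]
      ring
    have him := hy m hm0 hm1
    have hin := hy n hn0 hn1
    have hxm : (vx : V6) m = (0 : F) := by simp [e, hm0, hm1]
    have hxn : (vx : V6) n = (0 : F) := by simp [e, hn0, hn1]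
    rw [hact, ← Matrix.mulVec_mulVec, refl_mulVec ν' vx, hN', hν'x, refl_mulVec ν, ← hNdef, dotProduct_sub,
      dotProduct_smul, ← hD', hνx] at him hin
    simp only [Pi.sub_apply, Pi.smul_apply, smul_eq_mul, hν'm, hν'n, hxm, hxn, hνj m, hνj n,
      if_neg (show ¬(m = k ∨ m = l) by simp [hkm.symm, hlm.symm]),
      if_neg (show ¬(n = k ∨ n = l) by simp [hkn.symm, hln.symm])] at him hin
    set c' := 1 - 2 * D' / N with hc'
    have h16 : (16 : F) * u 0 / N ≠ 0 :=
      div_ne_zero (mul_ne_zero (by rw [show (16 : F) = 2 * 2 * (2 * 2) by norm_num]; exact mul_ne_zero (mul_ne_zero h2 h2) (mul_ne_zero h2 h2)) (hnz 0)) hN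
    have e1 : u n + c' * u m = 0 := (mul_eq_zero.mp (show (16 : F) * u 0 / N * (u n + c' * u m) = 0 by
      rw [hc']; field_simp at him ⊢; linear_combination -him)).resolve_left h16
    have e2 : u m + c' * u n = 0 := (mul_eq_zero.mp (show (16 : F) * u 0 / N * (u m + c' * u n) = 0 by
      rw [hc']; field_simp at hin ⊢; linear_combination -hin)).resolve_left h16
    linear_combination u m * e2 - u n * e1

include hp hodd hG in
/-- Three equal squares and a different one. -/
theorem Good.three {u : V6} (hu : Good C G u) (hnz : ∀ j, u j ≠ 0) {k l m n : Fin 6} (h4 : Four k l m n)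
    (hl : u l * u l = u k * u k) (hm : u m * u m = u k * u k) (hn : u n * u n ≠ u k * u k) :
    8 * (u k * u k) = 1 ∧ u n * u n = 1 + u k * u k := by
  obtain ⟨hk0, hk1, hl0, hl1, hm0, hm1, hn0, hn1, hkl, hkm, hkn, hlm, hln, hmn, hkmln, -, -, -⟩ := four_facts k l m n h4
  have h2 := C.two
  have hsum : 2 * (u 0 * u 0) + 3 * (u k * u k) + u n * u n = 2 := by
    have := hu.norm
    rw [dotProduct, sum_six h4, hl, hm, ← hu.eq01] at this
    linear_combination this
  have hα : u 0 * u 0 ≠ 0 := mul_ne_zero (hnz 0) (hnz 0)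
  have hP : ∀ σ : F, σ * σ = 1 → 2 * u k * (u k + σ * u n) = 1 ∨ (u k + σ * u n) * (u k + σ * u n) = 1 ∨
      u n * u n = 1 + u k * u k := by
    intro σ hσ
    set c := u k + σ * u n with hc
    have hc0 : c ≠ 0 := fun h => hn (by linear_combination (-u n * u n) * hσ + (σ * u n - u k) * h)
    have hr : Good C G (e k + σ • e n) := good_root hG hkn hk0 hk1 hn0 hn1 hσ
    set t := refl u *ᵥ (e k + σ • e n : V6) with ht
    have htG : Good C G t := hu.reflect hG hr
    have htj : ∀ j, t j = (e k + σ • e n : V6) j - c * u j := fun j => by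
      rw [ht, refl_mulVec, hu.norm, dotProduct_add, dotProduct_smul, dot_e, dot_e, smul_eq_mul,
        mul_div_cancel_left₀ _ h2, ← hc]
      simp
    have tk : t k = 1 - c * u k := by rw [htj]; simp [e, hkn]
    have tl : t l = -(c * u l) := by rw [htj]; simp [e, hkl.symm, hln]
    have tm : t m = -(c * u m) := by rw [htj]; simp [e, hkm.symm, hmn]
    have tn : t n = σ - c * u n := by rw [htj]; simp [e, hkn.symm]
    have t0 : t 0 = -(c * u 0) := by rw [htj]; simp [e, hk0.symm, hn0.symm]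
    have htnz := htG.nonzero hp hodd hG (by rw [t0]; exact neg_ne_zero.mpr (mul_ne_zero hc0 (hnz 0))) hl0 hl1
      (by rw [tl]; exact neg_ne_zero.mpr (mul_ne_zero hc0 (hnz l)))
    rcases htG.dichotomy hp hodd hG htnz h4 with h | h
    · left
      rw [tk, tl] at h
      linear_combination -h + (c * c) * (-hl)
    · right
      rw [tm, tn] at h
      have h5 : (1 - c * c) * (1 - u n * u n + u k * u k) = 0 := by
        have e1 : (1 - c * (σ * u n)) * (1 - c * (σ * u n)) = c * c * (u k * u k) := by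
          linear_combination c * c * hm - h + (c * c * u n * u n - 1) * hσ
        rw [hc] at e1 ⊢
        linear_combination e1 + u n * u n * (1 - (u k + σ * u n) * (u k + σ * u n)) * hσ
      rcases mul_eq_zero.mp h5 with h6 | h6
      · left; linear_combination -h6
      · right; linear_combination -h6
  have hμ : u n * u n = 1 + u k * u k := by
    rcases hP 1 (by ring) with a | a | a
    rotate_left 2
    · exact a
    all_goals rcases hP (-1) (by ring) with b | b | b
    all_goals first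
      | exact b
      | exact absurd ((mul_eq_zero.mp (show (2 : F) * (2 * (u k * u n)) = 0 by linear_combination a - b)).resolve_left h2)
          (mul_ne_zero h2 (mul_ne_zero (hnz k) (hnz n)))
      | exact absurd ((mul_eq_zero.mp (show (2 : F) * (u 0 * u 0) = 0 by linear_combination hsum - a - b)).resolve_left h2) hα
  refine ⟨?_, hμ⟩
  obtain ⟨s, hs, hsl⟩ : ∃ s : F, s * s = 1 ∧ s * u l = u k := by
    rcases mul_self_eq_mul_self_iff.mp hl with h | h
    · exact ⟨1, one_mul 1, by rw [h, one_mul]⟩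
    · exact ⟨-1, by ring, by rw [h]; ring⟩
  have hr : Good C G (e k + s • e l) := good_root hG hkl hk0 hk1 hl0 hl1 hs
  set t := refl u *ᵥ (e k + s • e l : V6) with ht
  have htG : Good C G t := hu.reflect hG hr
  have htj : ∀ j, t j = (e k + s • e l : V6) j - (2 * u k) * u j := fun j => by
    rw [ht, refl_mulVec, hu.norm, dotProduct_add, dotProduct_smul, dot_e, dot_e, smul_eq_mul,
      mul_div_cancel_left₀ _ h2, hsl]
    rw [Pi.sub_apply, Pi.smul_apply, smul_eq_mul, two_mul (u k)]
  have tk : t k = 1 - 2 * u k * u k := by rw [htj]; simp [e, hkl]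
  have tm : t m = -(2 * u k * u m) := by rw [htj]; simp [e, hkm.symm, hlm.symm]
  have tl : t l = s - 2 * u k * u l := by rw [htj]; simp [e, hkl.symm]
  have tn : t n = -(2 * u k * u n) := by rw [htj]; simp [e, hkn.symm, hln.symm]
  have t0 : t 0 = -(2 * u k * u 0) := by rw [htj]; simp [e, hk0.symm, hl0.symm]
  have hk2 : 2 * u k ≠ 0 := mul_ne_zero h2 (hnz k)
  have htnz := htG.nonzero hp hodd hG (by rw [t0]; exact neg_ne_zero.mpr (mul_ne_zero hk2 (hnz 0))) hm0 hm1
    (by rw [tm]; exact neg_ne_zero.mpr (mul_ne_zero hk2 (hnz m)))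
  have hsl2 : (s - 2 * u k * u l) * (s - 2 * u k * u l) = (1 - 2 * u k * u k) * (1 - 2 * u k * u k) := by
    linear_combination hs + 4 * u k * u k * hl - 4 * u k * hsl
  rcases htG.dichotomy hp hodd hG htnz hkmln with h | h
  · rw [tk, tm] at h
    exfalso
    apply hα
    have e1 : (1 : F) = 4 * (u k * u k) := by linear_combination h + 4 * u k * u k * hm
    exact (mul_eq_zero.mp (show (2 : F) * (u 0 * u 0) = 0 by linear_combination hsum - hμ + e1)).resolve_left h2
  · rw [tl, tn, hsl2] at h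
    linear_combination -h - 4 * u k * u k * hμ

include hp hodd hG in
theorem Good.absurd_long (h7 : (7 : F) ≠ 0) (h3 : (3 : F) ≠ 0) {u : V6} (hu : Good C G u) (hnz : ∀ j, u j ≠ 0)
    {k l m n : Fin 6} (h4 : Four k l m n) (hl : u l * u l = u k * u k) (hm : u m * u m = u k * u k) : False := by
  obtain ⟨hk0, hk1, hl0, hl1, hm0, hm1, hn0, hn1, hkl, hkm, hkn, hlm, hln, hmn, hkmln, -, -, hklnm⟩ :=
    four_facts k l m n h4
  have h2 := C.two
  obtain ⟨s, hs, hsl⟩ : ∃ s : F, s * s = 1 ∧ s * u l = u k := by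
    rcases mul_self_eq_mul_self_iff.mp hl with h | h
    · exact ⟨1, one_mul 1, by rw [h, one_mul]⟩
    · exact ⟨-1, by ring, by rw [h]; ring⟩
  have hr : Good C G (e k + s • e l) := good_root hG hkl hk0 hk1 hl0 hl1 hs
  set t := refl u *ᵥ (e k + s • e l : V6) with ht
  have htG : Good C G t := hu.reflect hG hr
  have htj : ∀ j, t j = (e k + s • e l : V6) j - (2 * u k) * u j := fun j => by
    rw [ht, refl_mulVec, hu.norm, dotProduct_add, dotProduct_smul, dot_e, dot_e, smul_eq_mul,
      mul_div_cancel_left₀ _ h2, hsl]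
    rw [Pi.sub_apply, Pi.smul_apply, smul_eq_mul, two_mul (u k)]
  have tk : t k = 1 - 2 * u k * u k := by rw [htj]; simp [e, hkl]
  have tm : t m = -(2 * u k * u m) := by rw [htj]; simp [e, hkm.symm, hlm.symm]
  have tl : t l = s - 2 * u k * u l := by rw [htj]; simp [e, hkl.symm]
  have tn : t n = -(2 * u k * u n) := by rw [htj]; simp [e, hkn.symm, hln.symm]
  have t0 : t 0 = -(2 * u k * u 0) := by rw [htj]; simp [e, hk0.symm, hl0.symm]
  have hk2 : 2 * u k ≠ 0 := mul_ne_zero h2 (hnz k)
  have htnz := htG.nonzero hp hodd hG (by rw [t0]; exact neg_ne_zero.mpr (mul_ne_zero hk2 (hnz 0))) hm0 hm1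
    (by rw [tm]; exact neg_ne_zero.mpr (mul_ne_zero hk2 (hnz m)))
  have hsl2 : t l * t l = t k * t k := by
    rw [tl, tk]; linear_combination hs + 4 * u k * u k * hl - 4 * u k * hsl
  have hmm : t m * t m = 4 * (u k * u k) * (u k * u k) := by
    rw [tm]; linear_combination 4 * u k * u k * hm
  have hnn : t n * t n = 4 * (u k * u k) * (u n * u n) := by rw [tn]; ring
  have hkk : t k * t k = 1 - 4 * (u k * u k) + 4 * (u k * u k) * (u k * u k) := by rw [tk]; ring
  by_cases hn : u n * u n = u k * u k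
  · -- four equal squares
    have e4 : 4 * (u k * u k) = 1 := by
      rcases htG.dichotomy hp hodd hG htnz hkmln with h | h
      · linear_combination hkk - hmm - h
      · rw [hsl2, hnn, hn] at h; linear_combination hkk - h
    have hsum : 2 * (u 0 * u 0) + 4 * (u k * u k) = 2 := by
      have := hu.norm
      rw [dotProduct, sum_six h4, hl, hm, hn, ← hu.eq01] at this
      linear_combination this
    set w := (2 * u 0) • (e k : V6) with hw
    have hw2 : w ⬝ᵥ w = 2 := by
      rw [hw, smul_dotProduct, dotProduct_smul, e_dot_e, if_pos rfl, smul_eq_mul, smul_eq_mul]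
      linear_combination 2 * hsum - 2 * e4
    set g := C.L w va with hg
    have hga : C.act (g : M4) = refl (e k : V6) * refl va := by
      rw [hg, C.act_L (hw2.trans va_dot.symm) (by rw [hw2]; exact h2), hw, refl_smul (mul_ne_zero h2 (hnz 0))]
    have hgm : g ∈ G := hG.mono _ (C.L_det _ _) (by
      rw [Mono, hga]; exact (isMono_refl_e k).mul (isMono_refl_swap h2 (by decide)))
    have h01 : va ⬝ᵥ va ≠ (0 : F) := by rw [va_dot]; exact h2
    have hekva : (e k : V6) ⬝ᵥ va = 0 := by rw [KleinSix.dot_va]; simp [e, hk0.symm, hk1.symm]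
    have hekvx : (e k : V6) ⬝ᵥ vx = 0 := by rw [dot_vx]; simp [e, hk0.symm, hk1.symm]
    set u' := C.act (g : M4) *ᵥ u with hu'
    have hu'G : Good C G u' := hu.map_rev hG hgm
      (by rw [hga, ← Matrix.mulVec_mulVec, refl_self h01, Matrix.mulVec_neg, refl_fix hekva])
      (by rw [hga, ← Matrix.mulVec_mulVec, refl_fix va_vx, refl_fix hekvx])
    have hu'v : u' = refl (e k : V6) *ᵥ u := by
      rw [hu', hga, ← Matrix.mulVec_mulVec, refl_fix (show va ⬝ᵥ u = 0 by rw [dotProduct_comm]; exact hu.dot_va)]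
    have hu'j : ∀ j, u' j = if j = k then -u j else u j := fun j => by
      rw [hu'v, refl_mulVec, e_dot, e_dot_e, if_pos rfl, div_one]
      by_cases h : j = k
      · subst h; simp [e]; ring
      · simp [e, h]
    set r := refl u *ᵥ u' with hr'
    have hrG : Good C G r := hu.reflect hG hu'G
    have huu : u ⬝ᵥ u' = 2 - 2 * (u k * u k) := by
      rw [hu'v, refl_mulVec, e_dot, e_dot_e, if_pos rfl, div_one, dotProduct_sub, hu.norm, dotProduct_smul, dot_e,
        smul_eq_mul]
      ring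
    have hrj : ∀ j, 2 * r j = 2 * u' j - 3 * u j := fun j => by
      rw [hr', refl_mulVec, hu.norm, huu, mul_div_cancel_left₀ _ h2]
      simp only [Pi.sub_apply, Pi.smul_apply, smul_eq_mul]
      linear_combination u j * e4
    have ro : ∀ j, j ≠ k → 2 * r j = -u j := fun j hj => by rw [hrj, hu'j, if_neg hj]; ring
    have rk : 2 * r k = -(5 * u k) := by rw [hrj, hu'j, if_pos rfl]; ring
    have hrnz := hrG.nonzero hp hodd hG (fun h => hnz 0 (by
      have := ro 0 hk0.symm; rw [h] at this; linear_combination this)) hl0 hl1 (fun h => hnz l (by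
      have := ro l hkl.symm; rw [h] at this; linear_combination this))
    have h44 : (2 : F) * 2 ≠ 0 := mul_ne_zero h2 h2
    have q1 : ∀ j, j ≠ k → 4 * (r j * r j) = u j * u j := fun j hj => by
      linear_combination (2 * r j - u j) * ro j hj
    have hlmn : r m * r m = r l * r l := mul_left_cancel₀ h44 (by linear_combination q1 m hkm.symm - q1 l hkl.symm + hm - hl)
    have hlnn : r n * r n = r l * r l := mul_left_cancel₀ h44 (by linear_combination q1 n hkn.symm - q1 l hkl.symm + hn - hl)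
    have hk4 : r k * r k ≠ r l * r l := fun h => by
      have e1 : 2 * (3 * (4 * (u k * u k))) * 2 * 2 = 0 := by
        linear_combination (16 : F) * h - 4 * ((2 * r k - 5 * u k) * rk) + 4 * q1 l hkl.symm + 4 * hl
      rw [e4] at e1
      exact mul_ne_zero (mul_ne_zero (mul_ne_zero h2 (mul_ne_zero h3 one_ne_zero)) h2) h2 e1
    have h4' : Four l m n k := by
      revert h4; clear * -; revert k l m n; decide +kernel
    obtain ⟨h8, -⟩ := hrG.three hp hodd hG hrnz h4' hlmn hlnn hk4
    exact one_ne_zero (α := F) (mul_left_cancel₀ h2 (by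
      linear_combination (-4 : F) * h8 + 8 * q1 l hkl.symm + 8 * hl + 2 * e4))
  · obtain ⟨h8, hμ⟩ := hu.three hp hodd hG hnz h4 hl hm hn
    have hA : 16 * (t k * t k) = 9 := by
      rw [hkk]; linear_combination (8 * (u k * u k) - 7) * h8
    have hB : 16 * (t m * t m) = 1 := by
      rw [hmm]; linear_combination (8 * (u k * u k) + 1) * h8
    have hCc : 16 * (t n * t n) = 9 := by
      rw [hnn, hμ]; linear_combination (8 * (u k * u k) + 9) * h8
    have h16 : (16 : F) ≠ 0 := by
      rw [show (16 : F) = 2 * 2 * (2 * 2) by norm_num]; exact mul_ne_zero (mul_ne_zero h2 h2) (mul_ne_zero h2 h2)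
    obtain ⟨h8', -⟩ := htG.three hp hodd hG htnz hklnm hsl2 (mul_left_cancel₀ h16 (by rw [hCc, hA]))
      (fun h => by
        have e1 : (2 : F) * 2 * 2 = 0 := by linear_combination hB - hA - 16 * h
        exact mul_ne_zero (mul_ne_zero h2 h2) h2 e1)
    exact h7 (by linear_combination -hA + 2 * h8')

include hp hodd hG in
theorem Good.mono (h7 : (7 : F) ≠ 0) (h3 : (3 : F) ≠ 0) {u : V6} (hu : Good C G u) : C.Mono (C.L u vx) := by
  by_cases hz : ∃ k, k ≠ 0 ∧ k ≠ 1 ∧ u k = 0
  · obtain ⟨k, hk0, hk1, hk⟩ := hz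
    exact hu.mono_of_zero hp hodd hG hk0 hk1 hk
  push Not at hz
  exfalso
  have h2 := C.two
  by_cases h0 : u 0 = 0
  · have hr : Good C G ((e 2 : V6) + (-1 : F) • e 3) := good_root hG (by decide) (by decide) (by decide) (by decide) (by decide) (by ring)
    set v := (e 2 : V6) + (-1 : F) • e 3 with hv
    have hmem : C.L u v ∈ G := by
      rw [← C.L_mul (hu.norm.trans vx_dot.symm) (vx_dot.trans hr.norm.symm) hu.ne,
        ← C.L_inv (hr.norm.trans vx_dot.symm) hr.ne]
      exact G.mul_mem hu.mem (G.inv_mem hr.mem)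
    have hact : C.act (C.L u v : M4) = refl u * refl v := C.act_L (hu.norm.trans hr.norm.symm) hu.ne
    have hm : C.Mono (C.L u v) := by
      refine mono_of_axis hp hodd hG hmem (k := 0) ?_
      rw [hact, refl2_fix (by rw [dot_e, hv]; simp [e]) (by rw [dot_e, h0])]
      exact axis_e 0
    have h4 := hz 4 (by decide) (by decide)
    rcases (hm 4).two_coords (show (2 : Fin 6) ≠ 3 by decide) with h | h <;>
      rw [hact, ← Matrix.mulVec_mulVec, refl_fix (show v ⬝ᵥ e 4 = 0 by rw [dot_e, hv]; simp [e]), refl_mulVec, hu.norm, dot_e,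
        mul_div_cancel_left₀ _ h2] at h <;> simp [e, h4] at h
    · exact hz 2 (by decide) (by decide) h
    · exact hz 3 (by decide) (by decide) h
  have hnz : ∀ j, u j ≠ 0 := fun j => hu.nonzero hp hodd hG h0 (by decide : (2 : Fin 6) ≠ 0) (by decide)
    (hz 2 (by decide) (by decide)) j
  rcases hu.dichotomy hp hodd hG hnz (show Four 2 3 4 5 by decide) with a | a <;>
    rcases hu.dichotomy hp hodd hG hnz (show Four 2 4 3 5 by decide) with b | b <;>
    rcases hu.dichotomy hp hodd hG hnz (show Four 2 5 3 4 by decide) with c | c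
  all_goals first
    | exact hu.absurd_long hp hodd hG h7 h3 hnz (show Four 2 3 4 5 by decide) (by grind) (by grind)
    | exact hu.absurd_long hp hodd hG h7 h3 hnz (show Four 2 3 5 4 by decide) (by grind) (by grind)
    | exact hu.absurd_long hp hodd hG h7 h3 hnz (show Four 2 4 5 3 by decide) (by grind) (by grind)
    | exact hu.absurd_long hp hodd hG h7 h3 hnz (show Four 3 4 5 2 by decide) (by grind) (by grind)

include hp hodd hG in
/-- An element fixing the root is monomial. -/
theorem mono_of_root (h7 : (7 : F) ≠ 0) (h3 : (3 : F) ≠ 0) {g : G4} (hg : g ∈ G)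
    (ha : C.act (g : M4) *ᵥ va = va) : C.Mono g := by
  refine mono_of_both hp hodd hG hg ha ?_
  have h2 := C.two
  have hx : Good C G vx := ⟨by simp [e], vx_dot, by rw [C.L_self (by rw [vx_dot]; exact h2)]; exact G.one_mem⟩
  set r := C.act (g : M4) *ᵥ vx with hr
  have hrG : Good C G r := hx.map hG hg ha
  rcases hrG.classify (hrG.mono hp hodd hG h7 h3) with h | ⟨h0, hthree, -⟩
  · exact h
  exfalso
  have hd := hG.det g hg
  obtain ⟨k, hk⟩ : ∃ k, r k ≠ 0 := by
    by_contra hc
    push Not at hc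
    exact hrG.ne (by rw [show r = 0 from funext hc]; simp)
  have hk0 : k ≠ 0 := fun h => hk (h ▸ h0)
  have hk1 : k ≠ 1 := fun h => hk (h ▸ hrG.eq01 ▸ h0)
  obtain ⟨l, hlk, hl0, hl1, hl⟩ : ∃ l, l ≠ k ∧ l ≠ 0 ∧ l ≠ 1 ∧ r l = 0 := by
    obtain ⟨l, m, hlm, hlk, hl0, hl1, hmk, hm0, hm1⟩ := Kl.exists_two_out k 0 1
    by_cases hl : r l = 0
    · exact ⟨l, hlk, hl0, hl1, hl⟩
    · exact ⟨m, hmk, hm0, hm1, hthree k l m hlk.symm hmk.symm hlm hk hl⟩
  set t := (e k : V6) + (1 : F) • e l with ht
  have htG : Good C G t := good_root hG hlk.symm hk0 hk1 hl0 hl1 (one_mul 1)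
  have hai : C.act ((g⁻¹ : G4) : M4) *ᵥ va = va := by
    conv_lhs => rw [← ha]
    exact C.act_inv_cancel g _
  set u := C.act ((g⁻¹ : G4) : M4) *ᵥ t with hu
  have huG : Good C G u := htG.map hG (G.inv_mem hg) hai
  have hux : u ⬝ᵥ vx = r k := by
    have := C.act_dot hd u vx
    rw [hu, C.act_cancel_inv, ← hr] at this
    rw [hu, ← this, ht, add_dotProduct, smul_dotProduct, e_dot, e_dot, hl]
    simp
  have htl : t l = 1 := by simp [ht, e, hlk]
  rcases huG.classify (huG.mono hp hodd hG h7 h3) with h | ⟨h, -⟩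
  · have e1 : t = r ∨ t = -r := by
      rcases h with h | h
      · left; rw [hr, ← h, hu, C.act_cancel_inv]
      · right; rw [hr, ← Matrix.mulVec_neg, ← h, hu, C.act_cancel_inv]
    rcases e1 with e1 | e1 <;> · rw [e1] at htl; simp [hl] at htl
  · exact hk (by rw [← hux, huG.eq_vx, h, mul_zero])

end Kl

end Cfsg.Lib.Classical.KleinSix
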