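import Mathlib
import Cfsg.Agent.Classical.Misc.KleinSix.Root

/-! Overgroups of the monomial group in the Klein coordinates are monomial. -/

set_option autoImplicit false
set_option linter.unusedSimpArgs false
set_option linter.unusedSectionVars false
set_option linter.unusedVariables false
set_option linter.style.haveILetI false
set_option linter.flexible false

namespace Cfsg.Lib.Classical.KleinSix

open Matrix
open scoped MatrixGroups

universe u

variable {F : Type u} [Field F]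

local notation "M4" => Matrix (Fin 4) (Fin 4) F
local notation "M6" => Matrix (Fin 6) (Fin 6) F
local notation "V6" => Fin 6 → F
local notation "G4" => GL (Fin 4) F

theorem smul_e_eq {s t : F} {j k : Fin 6} (hs : s ≠ 0) (h : s • (e j : V6) = t • (e k : V6)) : j = k ∧ s = t := by
  have h1 := congrFun h j
  by_cases hjk : j = k
  · subst hjk; exact ⟨rfl, by simpa [e] using h1⟩
  · simp [e, hjk] at h1; exact absurd h1 hs

theorem IsDiagonal.sq {A : M6} (hA : IsDiagonal A) (ho : Aᵀ * A = 1) : A * A = 1 := by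
  refine mat_ext fun k => ?_
  obtain ⟨s, hs⟩ := hA k
  have h : (A *ᵥ (e k : V6)) ⬝ᵥ (A *ᵥ e k) = 1 := by
    rw [Matrix.dotProduct_mulVec, Matrix.vecMul_mulVec, ho, Matrix.vecMul_one, e_dot_e, if_pos rfl]
  rw [hs] at h
  simp [smul_dotProduct, dotProduct_smul, e_dot_e] at h
  rw [← Matrix.mulVec_mulVec, hs, Matrix.mulVec_smul, hs, smul_smul, h, one_smul, Matrix.one_mulVec]

theorem perm_three {π π' : Equiv.Perm (Fin 6)} {p q r : Fin 6} (hpq : p ≠ q) (hpr : p ≠ r) (hqr : q ≠ r)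
    (hp : π p = p) (hq : π q = q) (hr : π r = r) (hp' : π' p = p) (hq' : π' q = q) (hr' : π' r = r)
    (h : π ^ 3 = 1) (h' : π' ^ 3 = 1) : π * π' = 1 ∨ π * π'⁻¹ = 1 ∨ π = 1 ∨ π' = 1 := by
  let P : Fin 6 → Prop := fun x => x ∉ ({p, q, r} : Finset (Fin 6))
  have hc : Fintype.card (Subtype P) = 3 := by
    rw [Fintype.card_subtype, show (Finset.univ.filter P) = ({p, q, r} : Finset (Fin 6))ᶜ by ext; simp [P],
      Finset.card_compl, Finset.card_eq_three.mpr ⟨p, q, r, hpq, hpr, hqr, rfl⟩]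
    rfl
  let ε := Fintype.equivFinOfCardEq hc
  let φ : Equiv.Perm (Fin 3) →* Equiv.Perm (Fin 6) := Equiv.Perm.ofSubtype.comp ε.symm.permCongrHom.toMonoidHom
  have hinj : Function.Injective φ := Equiv.Perm.ofSubtype_injective.comp ε.symm.permCongrHom.injective
  have lift : ∀ σ : Equiv.Perm (Fin 6), σ p = p → σ q = q → σ r = r → ∃ a, φ a = σ := fun σ a b c => by
    have hs : ∀ x, σ x ≠ x → P x := fun x hx => by
      simp only [P, Finset.mem_insert, Finset.mem_singleton]
      rintro (rfl | rfl | rfl)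
      exacts [hx a, hx b, hx c]
    have hP : ∀ x, P (σ x) ↔ P x := fun x => by
      by_cases hx : σ x = x
      · rw [hx]
      · exact iff_of_true (hs _ fun h => hx (σ.injective h)) (hs x hx)
    refine ⟨ε.permCongrHom (σ.subtypePerm hP), ?_⟩
    show Equiv.Perm.ofSubtype (ε.symm.permCongr (ε.permCongr (σ.subtypePerm hP))) = σ
    rw [show ε.symm.permCongr (ε.permCongr (σ.subtypePerm hP)) = σ.subtypePerm hP from
      Equiv.ext fun x => by simp [Equiv.permCongr_apply]]
    exact Equiv.Perm.ofSubtype_subtypePerm _ hs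
  obtain ⟨a, rfl⟩ := lift π hp hq hr
  obtain ⟨b, rfl⟩ := lift π' hp' hq' hr'
  have key : ∀ a b : Equiv.Perm (Fin 3), a ^ 3 = 1 → b ^ 3 = 1 → a * b = 1 ∨ a * b⁻¹ = 1 ∨ a = 1 ∨ b = 1 := by
    decide +kernel
  rcases key a b (hinj (by rw [map_pow, h, map_one])) (hinj (by rw [map_pow, h', map_one])) with e | e | e | e
  · exact Or.inl (by rw [← map_mul, e, map_one])
  · exact Or.inr (Or.inl (by rw [← map_inv, ← map_mul, e, map_one]))
  · exact Or.inr (Or.inr (Or.inl (by rw [e, map_one])))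
  · exact Or.inr (Or.inr (Or.inr (by rw [e, map_one])))

/-- A signed permutation of order three fixing `e p + t • e q` fixes both indices. -/
theorem pair_fixed {A : M6} {π : Equiv.Perm (Fin 6)} {ε : Fin 6 → F} (hε : ∀ k, ε k * ε k = 1)
    (hA : ∀ k, A *ᵥ e k = ε k • e (π k)) (h3 : π ^ 3 = 1) {p q : Fin 6} (hpq : p ≠ q) {t : F} (ht : t ≠ 0)
    (h : A *ᵥ ((e p : V6) + t • e q) = e p + t • e q) : π p = p ∧ π q = q := by
  rw [Matrix.mulVec_add, Matrix.mulVec_smul, hA, hA, smul_smul] at h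
  have hne : π p ≠ π q := π.injective.ne hpq
  have h1 : π p = p ∨ π p = q := by
    by_contra hc
    push Not at hc
    have := congrFun h (π p)
    simp [e, hne, hc.1, hc.2] at this
    exact sq_one (hε p) this
  have h2 : π q = p ∨ π q = q := by
    by_contra hc
    push Not at hc
    have := congrFun h (π q)
    simp [e, hne.symm, hc.1, hc.2] at this
    rcases this with h' | h'
    exacts [ht h', sq_one (hε q) h']
  have e3 : ∀ x, π (π (π x)) = x := fun x => by
    have := Equiv.congr_fun h3 x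
    simpa [pow_succ, Equiv.Perm.mul_apply] using this
  rcases h1 with a | a
  · exact ⟨a, h2.resolve_left fun b => hne (a.trans b.symm)⟩
  · exfalso
    have b : π q = p := h2.resolve_right fun b => hne (a.trans b.symm)
    have := e3 p
    rw [a, b, a] at this
    exact hpq this.symm

namespace Kl

variable {C : Kl F} [Fintype F] {G : Subgroup (GL (Fin 4) F)}

theorem act_conj (g y : G4) : C.act ((g * y * g⁻¹ : G4) : M4) =
    C.act (g : M4) * C.act (y : M4) * C.act ((g⁻¹ : G4) : M4) := by rw [C.act_val_mul, C.act_val_mul]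

theorem act_mul_inv (g : G4) : C.act (g : M4) * C.act ((g⁻¹ : G4) : M4) = 1 := by
  rw [← C.act_val_mul, mul_inv_cancel, Units.val_one, C.act_one]

theorem act_inv_mul (g : G4) : C.act ((g⁻¹ : G4) : M4) * C.act (g : M4) = 1 := by
  rw [← C.act_val_mul, inv_mul_cancel, Units.val_one, C.act_one]

theorem conj_D {g : G4} (hd : (g : M4).det = 1) (a b : Fin 6) :
    C.act ((g * C.D a b * g⁻¹ : G4) : M4) = refl (C.act (g : M4) *ᵥ e a) * refl (C.act (g : M4) *ᵥ e b) := by
  rw [D, C.L_conj hd (by simp [e_dot_e]) (by simp [e_dot_e]),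
    C.act_L (by rw [C.act_dot hd, C.act_dot hd]; simp [e_dot_e]) (by rw [C.act_dot hd]; simp [e_dot_e])]

theorem act_D_sq {a b : Fin 6} (hab : a ≠ b) : C.act (C.D a b : M4) * C.act (C.D a b : M4) = 1 := by
  rw [← C.act_val_mul, D, C.L_sq (by simp [e_dot_e]) (by simp [e_dot_e]) (by simp [e_dot_e, hab]), C.act_neg,
    Units.val_one, C.act_one]

theorem conj_D_sq {g : G4} {a b : Fin 6} (hab : a ≠ b) :
    C.act ((g * C.D a b * g⁻¹ : G4) : M4) * C.act ((g * C.D a b * g⁻¹ : G4) : M4) = 1 := by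
  rw [act_conj, mul_assoc, ← mul_assoc _ (C.act (g : M4) * _), ← mul_assoc _ (C.act (g : M4)),
    act_inv_mul, one_mul, mul_assoc, ← mul_assoc (C.act (C.D a b : M4)), act_D_sq hab, one_mul, act_mul_inv]

theorem D_e_congr {p q p' q' : Fin 6} (h : p ≠ q) (h' : p' ≠ q') (hs : ∀ j, (j = p ∨ j = q) ↔ (j = p' ∨ j = q')) :
    C.act (C.D p q : M4) = C.act (C.D p' q' : M4) := by
  refine mat_ext fun j => ?_
  rw [C.D_e h, C.D_e h']
  exact if_congr (hs j) rfl rfl

/-- The plane of a diagonal conjugate. -/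
theorem diag_plane (h2 : ∀ n : ℕ, n ≤ 6 → (n : F) = 2 → n = 2) {g : G4} (hd : (g : M4).det = 1) {a b : Fin 6}
    (hab : a ≠ b) (h : IsDiagonal (C.act ((g * C.D a b * g⁻¹ : G4) : M4))) :
    ∃ p q, p ≠ q ∧ (∀ j, j ≠ p → j ≠ q → (C.act (g : M4) *ᵥ (e a : V6)) j = 0 ∧ (C.act (g : M4) *ᵥ (e b : V6)) j = 0) ∧
      C.act ((g * C.D a b * g⁻¹ : G4) : M4) = C.act (C.D p q : M4) := by
  classical
  set w := C.act (g : M4) *ᵥ (e a : V6) with hw
  set w' := C.act (g : M4) *ᵥ (e b : V6) with hw'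
  set A := C.act ((g * C.D a b * g⁻¹ : G4) : M4) with hA
  have hww : w ⬝ᵥ w = 1 := by rw [hw, C.act_dot hd]; simp [e_dot_e]
  have hww' : w' ⬝ᵥ w' = 1 := by rw [hw', C.act_dot hd]; simp [e_dot_e]
  have horth : w ⬝ᵥ w' = 0 := by rw [hw, hw', C.act_dot hd]; simp [e_dot_e, hab]
  choose s hs using h
  have hsq : ∀ j, s j * s j = 1 := fun j => by
    have := congrArg (· *ᵥ (e j : V6)) (conj_D_sq (C := C) (g := g) hab)
    simp only [← Matrix.mulVec_mulVec, ← hA, hs, Matrix.mulVec_smul, smul_smul, Matrix.one_mulVec] at this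
    exact (smul_e_eq (sq_one_ne (show (1 : F) * 1 = 1 from one_mul 1)) (by rw [one_smul]; exact this.symm)).2.symm
  have hval : ∀ j, s j = 1 - 2 * (w j * w j) - 2 * (w' j * w' j) := fun j => by
    have := congrFun (hs j) j
    rw [hA, conj_D hd, ← hw, ← hw', ← Matrix.mulVec_mulVec, refl_mulVec w', hww', Matrix.mulVec_sub, Matrix.mulVec_smul,
      refl_mulVec w, refl_fix horth, hww, dot_e, dot_e] at this
    simp [e] at this
    linear_combination -this
  have hzero : ∀ j, s j = 1 → w j = 0 ∧ w' j = 0 := fun j hj => by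
    have key : ∀ v : V6, (A *ᵥ v = -v) → v j = 0 := fun v hv => by
      have hdd : ((g * C.D a b * g⁻¹ : G4) : M4).det = 1 := det_mul (det_mul hd (C.L_det _ _)) (det_inv hd)
      have := C.act_dot hdd v (e j)
      rw [← hA, hv, hs, hj, one_smul, neg_dotProduct, dot_e] at this
      exact (mul_eq_zero.mp (show (2 : F) * v j = 0 by linear_combination -this)).resolve_left C.two
    constructor <;> refine key _ ?_ <;> rw [hA, conj_D hd, ← Matrix.mulVec_mulVec]
    · rw [refl_fix (show w' ⬝ᵥ w = 0 by rw [dotProduct_comm]; exact horth), refl_self (by rw [hww]; exact one_ne_zero)]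
    · rw [refl_self (by rw [hww']; exact one_ne_zero), Matrix.mulVec_neg, refl_fix horth]
  set S := Finset.univ.filter fun j => ¬ s j = 1 with hS
  have hsS : ∀ j ∈ S, s j = -1 := fun j hj =>
    (mul_self_eq_one_iff.mp (hsq j)).resolve_left (Finset.mem_filter.mp hj).2
  have hsum : ∑ j, s j = 2 := by
    simp only [hval, Finset.sum_sub_distrib, ← Finset.mul_sum]
    rw [show ∑ j, w j * w j = 1 from hww, show ∑ j, w' j * w' j = 1 from hww']
    simp; norm_num
  have hcard : S.card = 2 := by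
    refine h2 _ (le_trans (Finset.card_le_univ _) (by simp)) ?_
    have e1 : ∑ j, (1 - s j) = ∑ j ∈ S, (1 - s j) := (Finset.sum_subset (Finset.subset_univ S) fun j _ hj => by
      simp only [hS, Finset.mem_filter, Finset.mem_univ, true_and, not_not] at hj; rw [hj, sub_self]).symm
    have e2 : ∑ j ∈ S, (1 - s j) = ∑ j ∈ S, (2 : F) := Finset.sum_congr rfl fun j hj => by rw [hsS j hj]; norm_num
    rw [e2, Finset.sum_const, Finset.sum_sub_distrib, hsum] at e1
    simp at e1
    exact mul_right_cancel₀ C.two (by linear_combination -e1)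
  obtain ⟨p, q, hpq, hSpq⟩ := Finset.card_eq_two.mp hcard
  have hmem : ∀ j, j ∈ S ↔ j = p ∨ j = q := fun j => by rw [hSpq]; simp
  refine ⟨p, q, hpq, fun j hjp hjq => hzero j ?_, mat_ext fun j => ?_⟩
  · by_contra hj
    rcases (hmem j).mp (Finset.mem_filter.mpr ⟨Finset.mem_univ j, hj⟩) with h | h
    exacts [hjp h, hjq h]
  · rw [hs, C.D_e hpq]
    split_ifs with hj
    · rw [hsS j ((hmem j).mpr hj), neg_one_smul]
    · have : s j = 1 := by
        by_contra hj'
        exact hj ((hmem j).mp (Finset.mem_filter.mpr ⟨Finset.mem_univ j, hj'⟩))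
      rw [this, one_smul]

variable (hp : (Fintype.card F).Prime) (hodd : Odd (Fintype.card F)) (hG : Over C G) (h7 : (7 : F) ≠ 0)
  (h3 : (3 : F) ≠ 0)

include hp hodd hG h7 h3 in
theorem mono_of_root' {g : G4} (hg : g ∈ G) {p q : Fin 6} (hpq : p ≠ q) {s : F} (hs : s * s = 1)
    (h : C.act (g : M4) *ᵥ ((e p : V6) + s • e q) = e p + s • e q) : C.Mono g := by
  obtain ⟨m, hmd, hm, hmp, hmq⟩ := C.exists_mono (a := p) (b := q) (k := 0) (l := 1) hpq (by decide)
  obtain ⟨n, hnd, hn, hn'⟩ : ∃ n : G4, (n : M4).det = 1 ∧ C.Mono n ∧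
      C.act (n : M4) *ᵥ ((e p : V6) + s • e q) = e 0 - e 1 := by
    rcases mul_self_eq_one_iff.mp hs with rfl | rfl
    · refine ⟨C.D 1 2 * m, det_mul (C.L_det _ _) hmd, (C.mono_D 1 2).mul hm, ?_⟩
      rw [C.act_val_mul, ← Matrix.mulVec_mulVec, Matrix.mulVec_add, Matrix.mulVec_smul, hmp, hmq, one_smul,
        Matrix.mulVec_add, C.D_e (by decide), C.D_e (by decide)]
      simp [sub_eq_add_neg]
    · refine ⟨m, hmd, hm, ?_⟩
      rw [Matrix.mulVec_add, Matrix.mulVec_smul, hmp, hmq, neg_one_smul, ← sub_eq_add_neg]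
  have hnG := hG.mono _ hnd hn
  have hc : n * g * n⁻¹ ∈ G := G.mul_mem (G.mul_mem hnG hg) (G.inv_mem hnG)
  have h1 := mono_of_root hp hodd hG h7 h3 hc (by
    conv_lhs => rw [← hn']
    rw [C.act_val_mul, ← Matrix.mulVec_mulVec, C.act_inv_cancel, C.act_val_mul, ← Matrix.mulVec_mulVec, h, hn'])
  have h2 := ((hn.inv hnd).mul h1).mul hn
  rwa [show n⁻¹ * (n * g * n⁻¹) * n = g by group] at h2

include hp hodd hG h7 h3 in
/-- A monomial conjugate of a sign change is diagonal. -/
theorem diag_of_mono_conj {g : G4} (hg : g ∈ G) (hm : C.Mono (g * C.D 0 1 * g⁻¹)) :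
    IsDiagonal (C.act ((g * C.D 0 1 * g⁻¹ : G4) : M4)) := by
  classical
  have hd := hG.det g hg
  have h2 := C.two
  have h01 : (0 : Fin 6) ≠ 1 := by decide
  set A := C.act ((g * C.D 0 1 * g⁻¹ : G4) : M4) with hA
  have hdA : ((g * C.D 0 1 * g⁻¹ : G4) : M4).det = 1 := det_mul (det_mul hd (C.L_det _ _)) (det_inv hd)
  obtain ⟨ρ, ε, hε, hρ⟩ := IsMono.perm hm (C.act_orth hdA)
  rw [← hA] at hρ
  have hinv : ∀ k, ρ (ρ k) = k ∧ ε k * ε (ρ k) = 1 := fun k => by
    have := congrArg (· *ᵥ (e k : V6)) (conj_D_sq (C := C) (g := g) h01)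
    simp only [← Matrix.mulVec_mulVec, ← hA, hρ, Matrix.mulVec_smul, smul_smul, Matrix.one_mulVec] at this
    have := smul_e_eq (one_ne_zero (α := F)) ((one_smul F (e k : V6)).trans this.symm)
    exact ⟨this.1.symm, this.2.symm⟩
  by_contra hnd
  obtain ⟨p, hp'⟩ : ∃ p, ρ p ≠ p := by
    by_contra hc
    push Not at hc
    exact hnd fun k => ⟨ε k, by rw [hρ, hc]⟩
  set q := ρ p with hq
  have hqp : ρ q = p := (hinv p).1
  -- vectors negated by the conjugate
  set w := C.act (g : M4) *ᵥ (e 0 : V6) with hw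
  set w' := C.act (g : M4) *ᵥ (e 1 : V6) with hw'
  have hww : w ⬝ᵥ w = 1 := by rw [hw, C.act_dot hd]; simp [e_dot_e]
  have hww' : w' ⬝ᵥ w' = 1 := by rw [hw', C.act_dot hd]; simp [e_dot_e]
  have horth : w ⬝ᵥ w' = 0 := by rw [hw, hw', C.act_dot hd]; simp [e_dot_e]
  have hAw : A *ᵥ w = -w ∧ A *ᵥ w' = -w' := by
    rw [hA, conj_D hd, ← Matrix.mulVec_mulVec, ← Matrix.mulVec_mulVec, ← hw, ← hw']
    exact ⟨by rw [refl_fix (show w' ⬝ᵥ w = 0 by rw [dotProduct_comm]; exact horth), refl_self (by rw [hww]; exact one_ne_zero)],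
      by rw [refl_self (by rw [hww']; exact one_ne_zero), Matrix.mulVec_neg, refl_fix horth]⟩
  have hneg : ∀ v : V6, A *ᵥ v = -v → ∀ y : G4, C.act (y : M4) *ᵥ (e 0 : V6) = e 0 →
      C.act (y : M4) *ᵥ (e 1 : V6) = e 1 → C.act ((g * y * g⁻¹ : G4) : M4) *ᵥ v = v := by
    intro v hv y y0 y1
    rw [hA, conj_D hd, ← hw, ← hw', ← Matrix.mulVec_mulVec, refl_mulVec w', hww', Matrix.mulVec_sub, Matrix.mulVec_smul,
      refl_fix horth, refl_mulVec w, hww] at hv
    have e1 : v = (w ⬝ᵥ v) • w + (w' ⬝ᵥ v) • w' := by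
      funext j
      have := congrFun hv j
      simp at this ⊢
      exact mul_left_cancel₀ h2 (by linear_combination this)
    rw [e1, Matrix.mulVec_add, Matrix.mulVec_smul, Matrix.mulVec_smul, hw, hw']
    simp only [act_conj, ← Matrix.mulVec_mulVec, C.act_inv_cancel, y0, y1]
  set a' := (e p : V6) + (-ε p) • e q with ha'
  have hεp : -ε p * -ε p = 1 := by rw [neg_mul_neg]; exact hε p
  have ha'neg : A *ᵥ a' = -a' := by
    rw [ha', Matrix.mulVec_add, Matrix.mulVec_smul, hρ, hρ, hqp, ← hq, smul_smul, neg_mul,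
      show ε p * ε q = 1 from (hinv p).2]
    module
  -- a third fixed index
  obtain ⟨r, hrp, hrq, hr⟩ : ∃ r, r ≠ p ∧ r ≠ q ∧ ¬(ρ r = r ∧ ε r = 1) := by
    by_contra hc
    push Not at hc
    have hz : ∀ v : V6, A *ᵥ v = -v → v = v p • a' := fun v hv => by
      have hc' : ∀ j, (A *ᵥ v) ⬝ᵥ (A *ᵥ (e j : V6)) = v j := fun j => by rw [hA, C.act_dot hdA, dot_e]
      have hj : ∀ j, -(v (ρ j)) * ε j = v j := fun j => by
        have := hc' j
        rw [hv, hρ, dotProduct_smul, neg_dotProduct, dot_e, smul_eq_mul] at this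
        linear_combination this
      funext j
      by_cases hjp : j = p
      · subst hjp; simp [ha', e, hp'.symm]
      by_cases hjq : j = q
      · subst hjq
        have := hj p
        rw [← hq] at this
        simp [ha', e, hp']
        linear_combination -(v q) * hε p - ε p * this
      · have := hj j
        rw [(hc j hjp hjq).1, (hc j hjp hjq).2 ] at this
        simp [ha', e, hjp, hjq]
        exact (mul_eq_zero.mp (show (2 : F) * v j = 0 by linear_combination -this)).resolve_left h2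
    have haa : a' ⬝ᵥ a' = 2 := root_dot hp'.symm hεp
    have q1 := hz w hAw.1
    have q2 := hz w' hAw.2
    rw [q1, q2, smul_dotProduct, dotProduct_smul, haa, smul_eq_mul, smul_eq_mul] at horth
    rw [q1, smul_dotProduct, dotProduct_smul, haa, smul_eq_mul, smul_eq_mul] at hww
    rw [q2, smul_dotProduct, dotProduct_smul, haa, smul_eq_mul, smul_eq_mul] at hww'
    exact one_ne_zero (α := F) (by linear_combination -hww' - (w' p * (w' p * 2)) * hww + (w p * (w' p * 2)) * horth)
  have main : ∀ y ∈ G, C.act (y : M4) *ᵥ (e 0 : V6) = e 0 → C.act (y : M4) *ᵥ (e 1 : V6) = e 1 →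
      C.act (y : M4) * C.act (y : M4) * C.act (y : M4) = 1 → ∃ (π : Equiv.Perm (Fin 6)) (δ : Fin 6 → F),
        (∀ k, δ k * δ k = 1) ∧ (∀ k, C.act ((g * y * g⁻¹ : G4) : M4) *ᵥ e k = δ k • e (π k)) ∧
        π ^ 3 = 1 ∧ π p = p ∧ π q = q ∧ π r = r := by
    intro y hy y0 y1 y3
    have hyG : g * y * g⁻¹ ∈ G := G.mul_mem (G.mul_mem hg hy) (G.inv_mem hg)
    set Y := C.act ((g * y * g⁻¹ : G4) : M4) with hY
    have hYm : IsMono Y := mono_of_root' hp hodd hG h7 h3 hyG hp'.symm hεp (hneg a' ha'neg y y0 y1)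
    obtain ⟨π, δ, hδ, hπ⟩ := IsMono.perm hYm (C.act_orth (hG.det _ hyG))
    have hπ3 : π ^ 3 = 1 := by
      refine Equiv.ext fun k => ?_
      have h1 : Y * Y * Y = 1 := by
        rw [hY, ← C.act_val_mul, ← C.act_val_mul, show g * y * g⁻¹ * (g * y * g⁻¹) * (g * y * g⁻¹) =
          g * (y * y * y) * g⁻¹ by group, act_conj, C.act_val_mul, C.act_val_mul, y3, mul_one, act_mul_inv]
      have h2 := congrArg (· *ᵥ (e k : V6)) h1
      simp only [← Matrix.mulVec_mulVec, hπ, Matrix.mulVec_smul, smul_smul, Matrix.one_mulVec] at h2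
      have := (smul_e_eq (one_ne_zero (α := F)) ((one_smul F (e k : V6)).trans h2.symm)).1
      simpa [pow_succ, Equiv.Perm.mul_apply] using this.symm
    obtain ⟨e1, e2⟩ := pair_fixed hδ hπ hπ3 hp'.symm (sq_one_ne hεp) (hneg a' ha'neg y y0 y1)
    refine ⟨π, δ, hδ, hπ, hπ3, e1, e2, ?_⟩
    by_cases hrr : ρ r = r
    · have hεr : ε r = -1 := (mul_self_eq_one_iff.mp (hε r)).resolve_left fun h => hr ⟨hrr, h⟩
      have := hneg (e r) (by rw [hρ, hrr, hεr, neg_one_smul]) y y0 y1
      rw [hπ] at this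
      exact (smul_e_eq (sq_one_ne (hδ r)) (by rw [one_smul]; exact this : δ r • (e (π r) : V6) = (1 : F) • e r)).1
    · set b := (e r : V6) + (-ε r) • e (ρ r) with hb
      have hbneg : A *ᵥ b = -b := by
        rw [hb, Matrix.mulVec_add, Matrix.mulVec_smul, hρ, hρ, (hinv r).1, smul_smul, neg_mul,
          show ε r * ε (ρ r) = 1 from (hinv r).2]
        module
      exact (pair_fixed hδ hπ hπ3 (Ne.symm hrr) (sq_one_ne (by rw [neg_mul_neg]; exact hε r) : -ε r ≠ 0)
        (hneg b hbneg y y0 y1)).1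
  have h23 : (2 : Fin 6) ≠ 3 := by decide
  have h34 : (3 : Fin 6) ≠ 4 := by decide
  have h35 : (3 : Fin 6) ≠ 5 := by decide
  have hr2 : ∀ {a b : Fin 6}, a ≠ b → ((e a : V6) + e b) ⬝ᵥ (e a + e b) = 2 := fun h => by
    simpa using root_dot (F := F) h (one_mul (1 : F))
  set σ := C.sw 2 3 3 4 with hσ
  set σ' := C.L ((e 2 : V6) + e 3) (e 3 + e 5) with hσ'
  have hσ'act : C.act (σ' : M4) = refl ((e 2 : V6) + (1 : F) • e 3) * refl (e 3 + (1 : F) • e 5) := by
    rw [hσ', C.act_L ((hr2 h23).trans (hr2 h35).symm) (by rw [hr2 h23]; exact h2), one_smul, one_smul]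
  have hσ'm : C.Mono σ' := by
    rw [Mono, hσ'act]
    exact (isMono_refl_root h2 h23 (mul_one 1)).mul (isMono_refl_root h2 h35 (mul_one 1))
  have hσ'G : σ' ∈ G := hG.mono _ (C.L_det _ _) hσ'm
  have hσe : ∀ k, C.act (σ : M4) *ᵥ (e k : V6) = e (Equiv.swap 2 3 (Equiv.swap 3 4 k)) := C.sw_e h23 h34
  have hσ'e : ∀ k, C.act (σ' : M4) *ᵥ (e k : V6) =
      if k = 3 then -(e 5 : V6) else if k = 5 then e 2 else if k = 2 then -(e 3 : V6) else e k := fun k => by
    rw [hσ'act, ← Matrix.mulVec_mulVec, refl_root h2 h35 (mul_one 1)]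
    have h' : ∀ j, refl ((e 2 : V6) + e 3) *ᵥ e j = if j = 2 then -(e 3 : V6) else if j = 3 then -(e 2 : V6) else e j :=
      fun j => by simpa using refl_root h2 h23 (mul_one (1 : F)) j
    fin_cases k <;> simp [Matrix.mulVec_neg, h']
  obtain ⟨π, δ, hδ, hπ, hπ3, πp, πq, πr⟩ := main σ (hG.sw_mem h23 h34)
    (by rw [hσe]; rfl) (by rw [hσe]; rfl)
    (mat_ext fun k => by rw [← Matrix.mulVec_mulVec, ← Matrix.mulVec_mulVec, hσe, hσe, hσe, Matrix.one_mulVec]; fin_cases k <;> rfl)
  obtain ⟨π', δ', hδ', hπ', hπ'3, π'p, π'q, π'r⟩ := main σ' hσ'G (by rw [hσ'e]; simp) (by rw [hσ'e]; simp)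
    (mat_ext fun k => by
      rw [← Matrix.mulVec_mulVec, ← Matrix.mulVec_mulVec, hσ'e, Matrix.one_mulVec]
      fin_cases k <;> simp [hσ'e, Matrix.mulVec_neg])
  have sqid : ∀ x : G4, x ∈ G → IsDiagonal (C.act ((g * x * g⁻¹ : G4) : M4)) →
      C.act (x : M4) * C.act (x : M4) = 1 := fun x hx hdiag => by
    have h := hdiag.sq (C.act_orth (hG.det _ (G.mul_mem (G.mul_mem hg hx) (G.inv_mem hg))))
    rw [← C.act_val_mul, show g * x * g⁻¹ * (g * x * g⁻¹) = g * (x * x) * g⁻¹ by group, act_conj] at h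
    have := congrArg (fun Z => C.act ((g⁻¹ : G4) : M4) * Z * C.act (g : M4)) h
    rw [← C.act_val_mul]
    simpa only [mul_assoc, act_inv_mul, mul_one, ← mul_assoc (C.act ((g⁻¹ : G4) : M4)) (C.act (g : M4)),
      one_mul] using this
  rcases perm_three hp'.symm hrp.symm hrq.symm πp πq πr π'p π'q π'r hπ3 hπ'3 with e1 | e1 | e1 | e1
  · have h := sqid (σ * σ') (G.mul_mem (hG.sw_mem h23 h34) hσ'G) fun k => ⟨δ' k * δ (π' k), by
      rw [show g * (σ * σ') * g⁻¹ = g * σ * g⁻¹ * (g * σ' * g⁻¹) by group, C.act_val_mul, ← Matrix.mulVec_mulVec, hπ',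
        Matrix.mulVec_smul, hπ, smul_smul, show π (π' k) = k from Equiv.congr_fun e1 k]⟩
    rw [C.act_val_mul] at h
    have := congrArg (· *ᵥ (e 2 : V6)) h
    simp [← Matrix.mulVec_mulVec, hσe, hσ'e, Matrix.mulVec_neg, Equiv.swap_apply_def] at this
    have h5 := congrFun this 2
    simp [e] at h5
    exact h2 (by linear_combination -h5)
  · have e2 : π = π' := mul_inv_eq_one.mp e1
    have hinvY : ∀ k, C.act ((g * σ'⁻¹ * g⁻¹ : G4) : M4) *ᵥ (e (π' k) : V6) = δ' k • e k := fun k => by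
      have h := congrArg (C.act ((g * σ'⁻¹ * g⁻¹ : G4) : M4) *ᵥ ·) (hπ' k)
      simp only [Matrix.mulVec_smul] at h
      rw [Matrix.mulVec_mulVec, ← C.act_val_mul, show g * σ'⁻¹ * g⁻¹ * (g * σ' * g⁻¹) = 1 by group, Units.val_one,
        C.act_one, Matrix.one_mulVec] at h
      conv_rhs => rw [h, smul_smul, hδ', one_smul]
    have h := sqid (σ * σ'⁻¹) (G.mul_mem (hG.sw_mem h23 h34) (G.inv_mem hσ'G)) fun k => by
      obtain ⟨j, rfl⟩ := π'.surjective k
      exact ⟨δ' j * δ j, by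
        rw [show g * (σ * σ'⁻¹) * g⁻¹ = g * σ * g⁻¹ * (g * σ'⁻¹ * g⁻¹) by group, C.act_val_mul, ← Matrix.mulVec_mulVec,
          hinvY, Matrix.mulVec_smul, hπ, smul_smul, e2]⟩
    have i5 : C.act ((σ'⁻¹ : G4) : M4) *ᵥ (e 2 : V6) = e 5 := by
      have := C.act_inv_cancel σ' (e 5); rwa [hσ'e, if_neg (by decide), if_pos rfl] at this
    have i4 : C.act ((σ'⁻¹ : G4) : M4) *ᵥ (e 5 : V6) = -e 3 := by
      have := C.act_inv_cancel σ' (e 3)
      rw [hσ'e, if_pos rfl, Matrix.mulVec_neg, neg_eq_iff_eq_neg] at this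
      exact this
    rw [C.act_val_mul] at h
    have := congrArg (· *ᵥ (e 2 : V6)) h
    simp [-Matrix.coe_units_inv, ← Matrix.mulVec_mulVec, hσe, i5, i4, Matrix.mulVec_neg, Equiv.swap_apply_def] at this
    have h5 := congrFun this 2
    simp [e] at h5
  · have h := sqid σ (hG.sw_mem h23 h34) fun k => ⟨δ k, by rw [hπ, show π k = k from Equiv.congr_fun e1 k]⟩
    have := congrArg (· *ᵥ (e 2 : V6)) h
    simp [← Matrix.mulVec_mulVec, hσe, Equiv.swap_apply_def] at this
    exact absurd (e_injective this) (by decide)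
  · have h := sqid σ' hσ'G fun k => ⟨δ' k, by rw [hπ', show π' k = k from Equiv.congr_fun e1 k]⟩
    have := congrArg (· *ᵥ (e 2 : V6)) h
    simp [← Matrix.mulVec_mulVec, hσ'e, Matrix.mulVec_neg] at this
    have h5 := congrFun this 2
    simp [e] at h5

include hp hodd hG h7 h3 in
theorem diag_of_mono_conj' {g : G4} (hg : g ∈ G) {a b : Fin 6} (hab : a ≠ b) (hm : C.Mono (g * C.D a b * g⁻¹)) :
    IsDiagonal (C.act ((g * C.D a b * g⁻¹ : G4) : M4)) := by
  obtain ⟨m, hmd, hm', ha, hb⟩ := C.exists_mono (a := 0) (b := 1) (k := a) (l := b) (by decide) hab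
  have he : g * m * C.D 0 1 * (g * m)⁻¹ = g * C.D a b * g⁻¹ := by
    rw [D, D, _root_.mul_inv_rev, ← ha, ← hb, ← C.L_conj hmd (by simp [e_dot_e]) (by simp [e_dot_e])]; group
  have := diag_of_mono_conj hp hodd hG h7 h3 (G.mul_mem hg (hG.mono _ hmd hm')) (by rw [he]; exact hm)
  rwa [he] at this

include hp hodd hG h7 h3 in
/-- Fusion: an element conjugating a sign change to a monomial element is monomial. -/
theorem mono_of_conj_D (h2 : ∀ n : ℕ, n ≤ 6 → (n : F) = 2 → n = 2) {g : G4} (hg : g ∈ G) {a b : Fin 6} (hab : a ≠ b)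
    (hm : C.Mono (g * C.D a b * g⁻¹)) : C.Mono g := by
  have hdiag := diag_of_mono_conj' hp hodd hG h7 h3 hg hab hm
  obtain ⟨p, q, hpq, hsupp, -⟩ := diag_plane h2 (hG.det g hg) hab hdiag
  obtain ⟨m, hmd, hm₁, hma, hmb⟩ := C.exists_mono (a := 0) (b := 1) (k := a) (l := b) (by decide) hab
  obtain ⟨n, hnd, hn, hnp, hnq⟩ := C.exists_mono (a := p) (b := q) (k := 0) (l := 1) hpq (by decide)
  set h := n * g * m with hh
  have hhG : h ∈ G := G.mul_mem (G.mul_mem (hG.mono _ hnd hn) hg) (hG.mono _ hmd hm₁)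
  have hhd := hG.det h hhG
  have hgd := hG.det g hg
  have hexp : ∀ v : V6, (∀ j, j ≠ p → j ≠ q → v j = 0) → C.act (n : M4) *ᵥ v = v p • (e 0 : V6) + v q • e 1 :=
    fun v hv => by
      have e1 : v = v p • (e p : V6) + v q • e q := funext fun j => by
        by_cases hjp : j = p
        · subst hjp; simp [e, hpq]
        by_cases hjq : j = q
        · subst hjq; simp [e, hpq.symm]
        simp [e, hjp, hjq, hv j hjp hjq]
      conv_lhs => rw [e1]
      rw [Matrix.mulVec_add, Matrix.mulVec_smul, Matrix.mulVec_smul, hnp, hnq]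
  have hform : ∀ k : Fin 6, k = 0 ∨ k = 1 → ∀ j, j ≠ 0 → j ≠ 1 → (C.act (h : M4) *ᵥ (e k : V6)) j = 0 := by
    intro k hk j hj0 hj1
    rw [hh, C.act_val_mul, C.act_val_mul, ← Matrix.mulVec_mulVec, ← Matrix.mulVec_mulVec]
    rcases hk with rfl | rfl
    · rw [hma, hexp _ fun j hjp hjq => (hsupp j hjp hjq).1]; simp [e, hj0, hj1]
    · rw [hmb, hexp _ fun j hjp hjq => (hsupp j hjp hjq).2]; simp [e, hj0, hj1]
  set w := C.act (h : M4) *ᵥ (e 0 : V6) with hw
  set w' := C.act (h : M4) *ᵥ (e 1 : V6) with hw'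
  have hdot : ∀ v x : V6, (∀ j, j ≠ 0 → j ≠ 1 → v j = 0) → v ⬝ᵥ x = v 0 * x 0 + v 1 * x 1 := fun v x hv => by
    simp [dotProduct, Fin.sum_univ_succ, hv 2 (by decide) (by decide), hv 3 (by decide) (by decide),
      hv 4 (by decide) (by decide), hv 5 (by decide) (by decide)]
  have a1 : w 0 * w 0 + w 1 * w 1 = 1 := by
    rw [← hdot w w (hform 0 (Or.inl rfl)), hw, C.act_dot hhd]; simp [e_dot_e]
  have a2 : w' 0 * w' 0 + w' 1 * w' 1 = 1 := by
    rw [← hdot w' w' (hform 1 (Or.inr rfl)), hw', C.act_dot hhd]; simp [e_dot_e]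
  have a3 : w 0 * w' 0 + w 1 * w' 1 = 0 := by
    rw [← hdot w w' (hform 0 (Or.inl rfl)), hw, hw', C.act_dot hhd]; simp [e_dot_e]
  have hk0 : ∀ k : Fin 6, k ≠ 0 → k ≠ 1 → (C.act (h : M4) *ᵥ (e k : V6)) 0 = 0 := fun k k0 k1 => by
    set v := C.act (h : M4) *ᵥ (e k : V6) with hv
    have b1 : w 0 * v 0 + w 1 * v 1 = 0 := by
      rw [← hdot w v (hform 0 (Or.inl rfl)), hw, hv, C.act_dot hhd]; simp [e_dot_e, k0.symm]
    have b2 : w' 0 * v 0 + w' 1 * v 1 = 0 := by
      rw [← hdot w' v (hform 1 (Or.inr rfl)), hw', hv, C.act_dot hhd]; simp [e_dot_e, k1.symm]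
    have hD : (w 0 * w' 1 - w 1 * w' 0) * (w 0 * w' 1 - w 1 * w' 0) = 1 := by
      linear_combination (w' 0 * w' 0 + w' 1 * w' 1) * a1 + a2 - (w 0 * w' 0 + w 1 * w' 1) * a3
    have hD0 : (w 0 * w' 1 - w 1 * w' 0) * v 0 = 0 := by linear_combination w' 1 * b1 - w 1 * b2
    exact (mul_eq_zero.mp hD0).resolve_left (sq_one_ne hD)
  have hplanes : ∀ k l : Fin 6, k ≠ 0 → k ≠ 1 → l ≠ 0 → l ≠ 1 → k ≠ l → ∃ p q, p ≠ q ∧
      (∀ j, j ≠ p → j ≠ q → (C.act (h : M4) *ᵥ (e k : V6)) j = 0) ∧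
      C.act ((h * C.D k l * h⁻¹ : G4) : M4) = C.act (C.D p q : M4) := by
    intro k l k0 k1 l0 l1 hkl
    have hmem : h * C.D k l * h⁻¹ ∈ G := G.mul_mem (G.mul_mem hhG (hG.D_mem k l)) (G.inv_mem hhG)
    have hmono : C.Mono (h * C.D k l * h⁻¹) := mono_of_axis hp hodd hG hmem (k := 0) (by
      rw [conj_D hhd, refl2_fix (by rw [dot_e]; exact hk0 l l0 l1) (by rw [dot_e]; exact hk0 k k0 k1)]
      exact axis_e 0)
    obtain ⟨p, q, hpq', hs, he⟩ := diag_plane h2 hhd hkl (diag_of_mono_conj' hp hodd hG h7 h3 hhG hkl hmono)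
    exact ⟨p, q, hpq', fun j a b => (hs j a b).1, he⟩
  have hax : Axis (C.act (h : M4) *ᵥ (e 2 : V6)) := by
    obtain ⟨p₁, q₁, hn₁, hs₁, he₁⟩ := hplanes 2 3 (by decide) (by decide) (by decide) (by decide) (by decide)
    obtain ⟨p₂, q₂, hn₂, hs₂, he₂⟩ := hplanes 2 4 (by decide) (by decide) (by decide) (by decide) (by decide)
    by_contra hax
    set v := C.act (h : M4) *ᵥ (e 2 : V6) with hv
    obtain ⟨x, y, hxy, hx, hy⟩ : ∃ x y, x ≠ y ∧ v x ≠ 0 ∧ v y ≠ 0 := by
      obtain ⟨x, hx⟩ : ∃ x, v x ≠ 0 := by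
        by_contra hc
        push Not at hc
        exact hax (axis_of_zeros (j := 0) fun j _ => hc j)
      by_contra hc
      push Not at hc
      exact hax (axis_of_zeros (j := x) fun j hj => hc x j (Ne.symm hj) hx)
    have hin : ∀ {p q : Fin 6}, (∀ j, j ≠ p → j ≠ q → v j = 0) → ∀ j, (j = x ∨ j = y) ↔ (j = p ∨ j = q) := by
      intro p q hs j
      have hx' : x = p ∨ x = q := by by_contra hc; push Not at hc; exact hx (hs x hc.1 hc.2)
      have hy' : y = p ∨ y = q := by by_contra hc; push Not at hc; exact hy (hs y hc.1 hc.2)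
      rcases hx' with rfl | rfl <;> rcases hy' with rfl | rfl <;> simp_all [or_comm]
    have heq : C.act (C.D p₁ q₁ : M4) = C.act (C.D p₂ q₂ : M4) :=
      D_e_congr hn₁ hn₂ fun j => (hin hs₁ j).symm.trans (hin hs₂ j)
    rw [← he₁, ← he₂, act_conj, act_conj] at heq
    have h1 := congrArg (fun Z => C.act ((h⁻¹ : G4) : M4) * Z * C.act (h : M4)) heq
    simp only [mul_assoc, act_inv_mul, mul_one] at h1
    simp only [← mul_assoc, act_inv_mul, one_mul] at h1
    have h5 := congrFun (congrArg (· *ᵥ (e 3 : V6)) h1) 3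
    simp [C.D_e] at h5
    simp [e] at h5
    exact C.two (by linear_combination -h5)
  have hhm : C.Mono h := mono_of_axis hp hodd hG hhG hax
  have := ((hn.inv hnd).mul hhm).mul (hm₁.inv hmd)
  rwa [show n⁻¹ * h * m⁻¹ = g by rw [hh]; group] at this

include hp hodd hG h7 h3 in
/-- The centraliser of a monomial involution. -/
theorem mono_of_commute (h2 : ∀ n : ℕ, n ≤ 6 → (n : F) = 2 → n = 2) {Z : M6} (hZm : IsMono Z) (hZo : Zᵀ * Z = 1)
    (hZZ : Z * Z = 1) (hdet : Z.det = 1) (hZ1 : Z ≠ 1) (hZn : Z ≠ -1) {g : G4} (hg : g ∈ G)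
    (hc : C.act (g : M4) * Z = Z * C.act (g : M4)) : C.Mono g := by
  classical
  obtain ⟨π, ε, hε, hπ⟩ := hZm.perm hZo
  have hinv : ∀ k, π (π k) = k ∧ ε k * ε (π k) = 1 := fun k => by
    have := congrArg (· *ᵥ (e k : V6)) hZZ
    simp only [← Matrix.mulVec_mulVec, hπ, Matrix.mulVec_smul, smul_smul, Matrix.one_mulVec] at this
    have := smul_e_eq (one_ne_zero (α := F)) ((one_smul F (e k : V6)).trans this.symm)
    exact ⟨this.1.symm, this.2.symm⟩
  have hprod : ((Equiv.Perm.sign π : ℤ) : F) = ∏ k, ε k := by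
    have hsub : Z.submatrix π id = Matrix.diagonal ε := by
      ext j k
      have := congrFun (hπ k) (π j)
      simp [e] at this
      rw [Matrix.submatrix_apply, id, this, Matrix.diagonal_apply, Pi.single_apply]
      by_cases hjk : j = k
      · subst hjk; simp
      · simp [hjk]
    have h := Matrix.det_permute π Z
    rw [hsub, Matrix.det_diagonal, hdet, mul_one] at h
    exact h.symm
  set Fx := Finset.univ.filter fun k => π k = k with hFx
  set neg := Fx.filter fun k => ¬ ε k = 1 with hneg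
  have hrest : ∏ k ∈ Fxᶜ, ε k = 1 := Finset.prod_involution (fun k _ => π k) (fun k _ => (hinv k).2)
    (fun k hk _ => by simpa [hFx] using hk) (fun k hk => by
      simpa [hFx] using hk) (fun k _ => (hinv k).1)
  have hfx : ∏ k ∈ Fx, ε k = (-1) ^ neg.card := by
    rw [← Finset.prod_filter_mul_prod_filter_not Fx (fun k => ¬ ε k = 1), ← hneg,
      Finset.prod_congr rfl (fun k hk => (mul_self_eq_one_iff.mp (hε k)).resolve_left (Finset.mem_filter.mp hk).2),
      Finset.prod_const, Finset.prod_eq_one (fun k hk => by simpa using (Finset.mem_filter.mp hk).2), mul_one]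
  have hsigneq : ((Equiv.Perm.sign π : ℤ) : F) = (-1) ^ neg.card := by
    rw [hprod, ← Finset.prod_mul_prod_compl Fx, hrest, mul_one, hfx]
  have hgd := hG.det g hg
  -- either conjugate a sign change to a monomial element, or fix a root
  by_cases hπ1 : π = 1
  · subst hπ1
    have hFall : Fx = Finset.univ := by ext; simp [hFx]
    have hev : Even neg.card := by
      rw [map_one, Units.val_one, Int.cast_one] at hsigneq
      by_contra ho
      rw [(Nat.not_even_iff_odd.mp ho).neg_one_pow] at hsigneq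
      exact C.two (by linear_combination hsigneq)
    have hle : neg.card ≤ 6 := le_trans (Finset.card_le_univ _) (by simp)
    have hmem : ∀ k, k ∈ neg ↔ ε k = -1 := fun k => by
      simp only [hneg, hFall, Finset.mem_filter, Finset.mem_univ, true_and]
      refine ⟨fun h => (mul_self_eq_one_iff.mp (hε k)).resolve_left h, fun h h' => C.two ?_⟩
      rw [h] at h'; linear_combination -h'
    have hn0 : neg.card ≠ 0 := fun h => hZ1 (mat_ext fun k => by
      rw [hπ, Matrix.one_mulVec, Equiv.Perm.one_apply,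
        (mul_self_eq_one_iff.mp (hε k)).resolve_right fun h' => by
          have := (hmem k).mpr h'
          rw [Finset.card_eq_zero.mp h] at this
          simp at this, one_smul])
    have hn6 : neg.card ≠ 6 := fun h => hZn (mat_ext fun k => by
      rw [hπ, Matrix.neg_mulVec, Matrix.one_mulVec, Equiv.Perm.one_apply,
        (hmem k).mp (by rw [Finset.eq_univ_of_card neg (by simpa using h)]; simp), neg_one_smul])
    obtain ⟨p, q, hpq, c, hc1, hZD⟩ : ∃ p q, p ≠ q ∧ ∃ c : F, c * c = 1 ∧ Z = c • C.act (C.D p q : M4) := by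
      obtain ⟨t, ht⟩ := hev
      rcases (show neg.card = 2 ∨ neg.card = 4 by omega) with h | h
      · obtain ⟨p, q, hpq, he⟩ := Finset.card_eq_two.mp h
        refine ⟨p, q, hpq, 1, one_mul 1, mat_ext fun k => ?_⟩
        rw [one_smul, hπ, Equiv.Perm.one_apply, C.D_e hpq]
        split_ifs with hk
        · rw [(hmem k).mp (by rw [he]; simpa using hk), neg_one_smul]
        · rw [(mul_self_eq_one_iff.mp (hε k)).resolve_right fun h' => hk (by simpa [he] using (hmem k).mpr h'), one_smul]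
      · obtain ⟨p, q, hpq, he⟩ := Finset.card_eq_two.mp (show negᶜ.card = 2 by rw [Finset.card_compl, h]; rfl)
        refine ⟨p, q, hpq, -1, by ring, mat_ext fun k => ?_⟩
        rw [hπ, Equiv.Perm.one_apply, Matrix.smul_mulVec, C.D_e hpq]
        have hiff : (k = p ∨ k = q) ↔ k ∉ neg := by rw [← Finset.mem_compl, he]; simp
        split_ifs with hk
        · rw [(mul_self_eq_one_iff.mp (hε k)).resolve_right fun h' => (hiff.mp hk) ((hmem k).mpr h')]
          module
        · rw [(hmem k).mp (not_not.mp fun h' => hk (hiff.mpr h'))]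
    refine mono_of_conj_D hp hodd hG h7 h3 h2 hg hpq ?_
    have hD : C.act (g : M4) * C.act (C.D p q : M4) = C.act (C.D p q : M4) * C.act (g : M4) := by
      rw [hZD, mul_smul_comm, smul_mul_assoc] at hc
      exact smul_right_injective M6 (sq_one_ne hc1) hc
    rw [Mono, act_conj, hD, mul_assoc, act_mul_inv, mul_one]
    exact C.mono_D p q
  obtain ⟨p, hpp⟩ : ∃ p, π p ≠ p := by
    by_contra hc'
    push Not at hc'
    exact hπ1 (Equiv.ext hc')
  obtain ⟨k, l, hkl, hk, hl, hkleq⟩ : ∃ k l, k ≠ l ∧ π k = k ∧ π l = l ∧ ε k = ε l := by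
    by_contra hno
    push Not at hno
    have hord : orderOf π = 2 := orderOf_eq_prime (Equiv.ext fun k => by simp [pow_two, (hinv k).1]) hπ1
    obtain ⟨t, ht⟩ := Equiv.Perm.cycleType_prime_order (hord.symm ▸ Nat.prime_two : (orderOf π).Prime)
    rw [hord] at ht
    have hs := Equiv.Perm.sum_cycleType π
    rw [ht, Multiset.sum_replicate, smul_eq_mul] at hs
    have hsgn := Equiv.Perm.sign_of_cycleType π
    rw [ht, Multiset.sum_replicate, Multiset.card_replicate, smul_eq_mul] at hsgn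
    have hsupp : π.support = Fxᶜ := by ext k; simp [hFx]
    rw [hsupp, Finset.card_compl, Fintype.card_fin] at hs
    have hsmall : ∀ (S : Finset (Fin 6)), (∀ a ∈ S, π a = a) → (∀ a ∈ S, ∀ b ∈ S, ε a = ε b) → S.card ≤ 1 :=
      fun S h1 h2' => Finset.card_le_one.mpr fun a ha b hb => by
        by_contra hab
        exact hno a b hab (h1 a ha) (h1 b hb) (h2' a ha b hb)
    have hn1 : neg.card ≤ 1 := hsmall neg (fun a ha => (Finset.mem_filter.mp (Finset.mem_filter.mp ha).1).2)
      fun a ha b hb => by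
        rw [(mul_self_eq_one_iff.mp (hε a)).resolve_left (Finset.mem_filter.mp ha).2,
          (mul_self_eq_one_iff.mp (hε b)).resolve_left (Finset.mem_filter.mp hb).2]
    have hp1 : (Fx.filter fun k => ε k = 1).card ≤ 1 :=
      hsmall _ (fun a ha => (Finset.mem_filter.mp (Finset.mem_filter.mp ha).1).2)
        fun a ha b hb => by rw [(Finset.mem_filter.mp ha).2, (Finset.mem_filter.mp hb).2]
    have hsplit := Finset.card_filter_add_card_filter_not (s := Fx) (fun k => ε k = 1)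
    rw [← hneg] at hsplit
    have hFle : Fx.card ≤ 6 := le_trans (Finset.card_le_univ _) (by simp)
    have cases2 : (t + 1 = 3 ∧ neg.card = 0) ∨ (t + 1 = 2 ∧ neg.card = 1) := by omega
    rcases cases2 with ⟨e1, e2⟩ | ⟨e1, e2⟩ <;>
      · rw [hsgn, e1, e2] at hsigneq
        norm_num at hsigneq
        exact C.two (by first | linear_combination hsigneq | linear_combination -hsigneq)
  set r := ε k with hr
  set v := (e p : V6) + (-(r * ε p)) • e (π p) with hv
  have hZv : Z *ᵥ v = (-r) • v := by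
    rw [hv, Matrix.mulVec_add, Matrix.mulVec_smul, hπ, hπ, (hinv p).1, smul_smul, neg_mul, mul_assoc, (hinv p).2, mul_one]
    have hrr : r * r = 1 := hε k
    match_scalars <;> first
      | linear_combination (-ε p) * hrr
      | linear_combination (ε p) * hrr
      | linear_combination (-(1 : F)) * hrr
      | linear_combination (1 : F) * hrr
      | ring
  set u := C.act ((g⁻¹ : G4) : M4) *ᵥ v with hu
  have hZu : Z *ᵥ u = (-r) • u := by
    have h1 : C.act (g : M4) *ᵥ (Z *ᵥ u) = C.act (g : M4) *ᵥ ((-r) • u) := by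
      rw [Matrix.mulVec_mulVec, hc, ← Matrix.mulVec_mulVec, Matrix.mulVec_smul, hu, C.act_cancel_inv, hZv]
    have := congrArg (C.act ((g⁻¹ : G4) : M4) *ᵥ ·) h1
    simpa only [C.act_inv_cancel] using this
  have hu0 : ∀ j, π j = j → ε j = r → u j = 0 := fun j hj hje => by
    have h1 : (Z *ᵥ u) ⬝ᵥ (Z *ᵥ (e j : V6)) = u j := by
      rw [Matrix.dotProduct_mulVec, ← Matrix.mulVec_transpose, Matrix.mulVec_mulVec, hZo, Matrix.one_mulVec, dot_e]
    rw [hZu, hπ, hj, hje, smul_dotProduct, dotProduct_smul, dot_e, smul_eq_mul, smul_eq_mul] at h1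
    have hrr : r * r = 1 := hε k
    exact (mul_eq_zero.mp (show (2 : F) * u j = 0 by linear_combination -h1 - u j * hrr)).resolve_left C.two
  refine mono_of_conj_D hp hodd hG h7 h3 h2 hg hkl (mono_of_root' hp hodd hG h7 h3
    (G.mul_mem (G.mul_mem hg (hG.D_mem k l)) (G.inv_mem hg)) hpp.symm
    (s := -(r * ε p)) (by rw [neg_mul_neg, mul_mul_mul_comm, hε, hε, one_mul]) ?_)
  rw [← hv, act_conj, ← Matrix.mulVec_mulVec, ← Matrix.mulVec_mulVec, ← hu, C.act_D,
    refl2_fix (by rw [e_dot, hu0 l hl hkleq.symm]) (by rw [e_dot, hu0 k hk rfl]), hu, C.act_cancel_inv]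

include hp hodd hG h7 h3 in
/-- Every element of an overgroup is monomial. -/
theorem mono_of_over (h2 : ∀ n : ℕ, n ≤ 6 → (n : F) = 2 → n = 2) {g : G4} (hg : g ∈ G) : C.Mono g := by
  classical
  by_contra hgm
  have h01 : (0 : Fin 6) ≠ 1 := by decide
  have h23 : (2 : Fin 6) ≠ 3 := by decide
  have hd := hG.det g hg
  set τ := g * C.D 0 1 * g⁻¹ with hτ
  have hτG : τ ∈ G := G.mul_mem (G.mul_mem hg (hG.D_mem 0 1)) (G.inv_mem hg)
  have hτm : ¬ C.Mono τ := fun h => hgm (mono_of_conj_D hp hodd hG h7 h3 h2 hg h01 h)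
  set s := C.sw 0 1 2 3 with hs
  have hsG : s ∈ G := hG.sw_mem h01 h23
  have hB : ∀ k, C.act (s : M4) *ᵥ (e k : V6) = e (Equiv.swap 0 1 (Equiv.swap 2 3 k)) := C.sw_e h01 h23
  have hBB : C.act (s : M4) * C.act (s : M4) = 1 := mat_ext fun k => by
    rw [← Matrix.mulVec_mulVec, hB, hB, Matrix.one_mulVec]; fin_cases k <;> rfl
  have hAA : C.act (τ : M4) * C.act (τ : M4) = 1 := conj_D_sq h01
  set a := C.actU τ with ha
  set b := C.actU s with hb
  have haa : a * a = 1 := Units.ext hAA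
  have hbb : b * b = 1 := Units.ext hBB
  have hai : a⁻¹ = a := inv_eq_of_mul_eq_one_left haa
  have hbi : b⁻¹ = b := inv_eq_of_mul_eq_one_left hbb
  have hbR : b * (a * b) * b⁻¹ = (a * b)⁻¹ := by
    rw [_root_.mul_inv_rev, hai, hbi, mul_assoc, mul_assoc a b b, hbb, mul_one]
  have haR : a * (a * b) * a⁻¹ = (a * b)⁻¹ := by
    rw [_root_.mul_inv_rev, hai, hbi, ← mul_assoc a a b, haa, one_mul]
  rcases Nat.even_or_odd (orderOf (a * b)) with ⟨t, ht⟩ | ⟨t, ht⟩
  · -- the central involution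
    set z := (τ * s) ^ t with hz
    have hzG : z ∈ G := G.pow_mem (G.mul_mem hτG hsG) t
    set R := (a * b) ^ t with hR
    have hzR : C.actU z = R := by rw [hz, map_pow, map_mul]
    set Z := C.act (z : M4) with hZ
    have hRinv : R⁻¹ = R := inv_eq_of_mul_eq_one_left (by rw [hR, ← pow_add, ← ht, pow_orderOf_eq_one])
    have hZZ : Z * Z = 1 := congrArg Units.val (show C.actU z * C.actU z = 1 by
      rw [hzR]; nth_rw 1 [← hRinv]; exact inv_mul_cancel R)
    have hcomm : ∀ x : GL (Fin 6) F, x * (a * b) * x⁻¹ = (a * b)⁻¹ → x * R = R * x := fun x hx => by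
      have : x * R * x⁻¹ = R := by rw [hR, ← conj_pow, hx, inv_pow, ← hR, hRinv]
      exact mul_inv_eq_iff_eq_mul.mp this
    have hcb : C.act (s : M4) * Z = Z * C.act (s : M4) := congrArg Units.val
      (show C.actU s * C.actU z = C.actU z * C.actU s by rw [hzR, ← hb]; exact hcomm b hbR)
    have hca : C.act (τ : M4) * Z = Z * C.act (τ : M4) := congrArg Units.val
      (show C.actU τ * C.actU z = C.actU z * C.actU τ by rw [hzR, ← ha]; exact hcomm a haR)
    have hsm : C.Mono s := C.mono_sw h01 h23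
    have hdB : (C.act (s : M4)).det = 1 := by
      rw [hs, C.act_sw h01 h23, Matrix.det_mul, det_refl (by rw [root_dot_sub h01]; exact C.two),
        det_refl (by rw [root_dot_sub h23]; exact C.two)]
      norm_num
    have hdA : (C.act (τ : M4)).det = 1 := by
      rw [hτ, conj_D hd, Matrix.det_mul, det_refl (by rw [C.act_dot hd]; simp [e_dot_e]),
        det_refl (by rw [C.act_dot hd]; simp [e_dot_e])]
      norm_num
    have hB1 : C.act (s : M4) ≠ 1 := fun h => by
      have := hB 0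
      rw [h, Matrix.one_mulVec] at this
      exact absurd (e_injective this) (by decide)
    have hBn : C.act (s : M4) ≠ -1 := fun h => by
      have := congrFun (hB 4) 4
      rw [h, Matrix.neg_mulVec, Matrix.one_mulVec] at this
      simp [e, Equiv.swap_apply_def] at this
      exact C.two (by linear_combination -this)
    have hzm : C.Mono z := mono_of_commute hp hodd hG h7 h3 h2 hsm (C.act_orth (hG.det s hsG)) hBB hdB hB1 hBn hzG hcb.symm
    have hdZ : Z.det = 1 := by
      rw [hZ, ← C.actU_val, hzR, hR, Units.val_pow_eq_pow_val, Matrix.det_pow, Units.val_mul, Matrix.det_mul, ha, hb,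
        C.actU_val, C.actU_val, hdA, hdB, one_mul, one_pow]
    have hpos : 0 < orderOf (a * b) := orderOf_pos _
    have hZ1 : Z ≠ 1 := fun h => by
      have h1 : R = 1 := by rw [← hzR]; exact Units.ext h
      have := orderOf_le_of_pow_eq_one (show 0 < t by omega) (hR ▸ h1)
      omega
    have hZn : Z ≠ -1 := by
      intro hZneg
      let T : V6 →ₗ[F] (Fin 4 → F) :=
        { toFun := fun f => ![(C.act (g : M4) *ᵥ e 0) ⬝ᵥ f, (C.act (g : M4) *ᵥ e 1) ⬝ᵥ f,
            ((e 0 : V6) - e 1) ⬝ᵥ f, ((e 2 : V6) - e 3) ⬝ᵥ f]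
          map_add' := fun x y => by funext i; fin_cases i <;> simp [dotProduct_add]
          map_smul' := fun c x => by funext i; fin_cases i <;> simp [dotProduct_smul] }
      have hker : LinearMap.ker T ≠ ⊥ := LinearMap.ker_ne_bot_of_finrank_lt (by simp)
      obtain ⟨f, hf, hf0⟩ := Submodule.exists_mem_ne_zero_of_ne_bot hker
      rw [LinearMap.mem_ker] at hf
      have hfA : C.act (τ : M4) *ᵥ f = f := by
        rw [hτ, conj_D hd, refl2_fix (by simpa [T] using congrFun hf 1) (by simpa [T] using congrFun hf 0)]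
      have hfB : C.act (s : M4) *ᵥ f = f := by
        rw [hs, C.act_sw h01 h23, refl2_fix (by simpa [T] using congrFun hf 3) (by simpa [T] using congrFun hf 2)]
      have hpow : ∀ n : ℕ, C.act (((τ * s) ^ n : G4) : M4) *ᵥ f = f := fun n => by
        induction n with
        | zero => simp [C.act_one]
        | succ n ih =>
          rw [pow_succ, C.act_val_mul, C.act_val_mul, ← Matrix.mulVec_mulVec, ← Matrix.mulVec_mulVec, hfB, hfA, ih]
      have := hpow t
      rw [← hz, ← hZ, hZneg, Matrix.neg_mulVec, Matrix.one_mulVec] at this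
      exact hf0 (funext fun i => (mul_eq_zero.mp (show (2 : F) * f i = 0 by
        have := congrFun this i
        simp at this
        linear_combination -this)).resolve_left C.two)
    exact hτm (mono_of_commute hp hodd hG h7 h3 h2 hzm (C.act_orth (hG.det z hzG)) hZZ hdZ hZ1 hZn hτG hca)
  · -- conjugate involutions
    set w := ((τ * s) ^ (t + 1))⁻¹ with hw
    set h := w * g with hh
    have hhG : h ∈ G := G.mul_mem (G.inv_mem (G.pow_mem (G.mul_mem hτG hsG) _)) hg
    have hX : (a * b) ^ (t + 1) * b * ((a * b) ^ (t + 1))⁻¹ = a := by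
      have h1 : b * ((a * b) ^ (t + 1))⁻¹ = (a * b) ^ (t + 1) * b := by
        rw [← inv_pow, ← hbR, conj_pow]
        rw [hbi, ← mul_assoc, ← mul_assoc, hbb, one_mul]
      rw [mul_assoc, h1, ← mul_assoc, ← pow_add, show t + 1 + (t + 1) = orderOf (a * b) + 1 by omega, pow_succ,
        pow_orderOf_eq_one, one_mul, mul_assoc, hbb, mul_one]
    have hact : C.actU (h * C.D 0 1 * h⁻¹) = b := by
      rw [show h * C.D 0 1 * h⁻¹ = w * τ * w⁻¹ by rw [hh, hτ]; group, hw]
      simp only [map_mul, map_inv, map_pow, inv_inv, ← ha, ← hb]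
      generalize (a * b) ^ (t + 1) = X at hX ⊢
      rw [← hX]
      group
    have hval : C.act ((h * C.D 0 1 * h⁻¹ : G4) : M4) = C.act (s : M4) := congrArg Units.val hact
    have hhm : C.Mono h := mono_of_conj_D hp hodd hG h7 h3 h2 hhG h01 (by
      rw [Mono, hval]; exact C.mono_sw h01 h23)
    have hdiag : IsDiagonal (C.act ((h * C.D 0 1 * h⁻¹ : G4) : M4)) :=
      diag_of_mono_conj hp hodd hG h7 h3 hhG (by rw [Mono, hval]; exact C.mono_sw h01 h23)
    rw [hval] at hdiag
    have := hdiag.off (p := 0) (q := 1) (by decide)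
    rw [hB] at this
    simp [e, Equiv.swap_apply_def] at this

end Kl

end Cfsg.Lib.Classical.KleinSix
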