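import Mathlib
import Cfsg.Agent.Classical.Misc.KleinSix.Main
import Cfsg.Agent.Classical.Misc.TwoSix.Structure
import Cfsg.Agent.Classical.TensorMax.Main

/-! The normaliser of a symplectic-type group of order 64 is maximal in `SL₄(p)`, `p ≡ 1 mod 4`. -/

set_option autoImplicit false
set_option linter.unusedSimpArgs false
set_option linter.unusedSectionVars false
set_option linter.unusedVariables false
set_option linter.style.haveILetI false
set_option linter.flexible false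

namespace Cfsg.Lib.Classical.KleinSix

open Matrix
open scoped MatrixGroups

universe u

variable {F : Type u} [Field F]

local notation "M4" => Matrix (Fin 4) (Fin 4) F
local notation "M6" => Matrix (Fin 6) (Fin 6) F
local notation "V6" => Fin 6 → F
local notation "G4" => GL (Fin 4) F

/-- A frame is brought to fixed matrices. -/
theorem frame_basis {R : Subgroup G4} {g : Fin 4 → G4} (S : TwoSix.Frame R g) {i : F} (hi : i * i = -1) :
    ∃ P : G4, (g 0 : M4) * (P : M4) = (P : M4) * !![1, 0, 0, 0; 0, -1, 0, 0; 0, 0, -1, 0; 0, 0, 0, 1] ∧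
      (g 1 : M4) * (P : M4) = (P : M4) * !![0, 1, 0, 0; 1, 0, 0, 0; 0, 0, 0, 1; 0, 0, 1, 0] ∧
      (g 2 : M4) * (P : M4) = (P : M4) * !![0, i, 0, 0; -i, 0, 0, 0; 0, 0, 0, i; 0, 0, -i, 0] ∧
      (g 3 : M4) * (P : M4) = (P : M4) * !![0, 0, 1, 0; 0, 0, 0, -1; 1, 0, 0, 0; 0, -1, 0, 0] := by
  classical
  have sq : ∀ k, (g k : M4) * (g k : M4) = 1 := fun k => by rw [← Units.val_mul, S.sq, Units.val_one]
  have an : ∀ j k, j ≠ k → (g j : M4) * (g k : M4) = -((g k : M4) * (g j : M4)) :=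
    fun j k h => TwoSix.Sg.anti.mp (S.anti j k h)
  set H : M4 := i • ((g 1 : M4) * (g 2 : M4)) with hH
  have hHH : H * H = 1 := by
    rw [hH, smul_mul_smul_comm, hi, mul_assoc, ← mul_assoc (g 2 : M4), an 2 1 (by decide), neg_mul, mul_neg,
      mul_assoc, sq, mul_one, sq, neg_one_smul, neg_neg]
  have h0H : (g 0 : M4) * H = H * (g 0 : M4) := by
    rw [hH, mul_smul_comm, smul_mul_assoc, ← mul_assoc, an 0 1 (by decide), neg_mul, mul_assoc, an 0 2 (by decide),
      mul_neg, neg_neg, mul_assoc]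
  set M : M4 := (1 + (g 0 : M4)) * (1 + H) with hM
  have hM0 : M ≠ 0 := fun h => by
    have hw : ∀ e : TwoSix.Idx, e ≠ 0 → (TwoSix.word g e : M4).trace = 0 := fun e he => S.trace_word he
    have t0 := hw (TwoSix.unitVec 0) (by decide)
    rw [TwoSix.Frame.word_unit] at t0
    have t12 := hw ![0, 1, 1, 0] (by decide)
    have t012 := hw ![1, 1, 1, 0] (by decide)
    simp [TwoSix.word, TwoSix.letter] at t12 t012
    have := congrArg Matrix.trace h
    rw [hM, hH, mul_add, mul_one, add_mul, one_mul, mul_smul_comm, ← mul_assoc, Matrix.trace_add, Matrix.trace_add,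
      Matrix.trace_add, Matrix.trace_smul, Matrix.trace_smul, Matrix.trace_one, t0, t12, t012, Matrix.trace_zero] at this
    simp at this
    exact S.four this
  obtain ⟨c, hc⟩ : ∃ c, M.col c ≠ 0 := by
    by_contra hc
    push Not at hc
    exact hM0 (by ext a b; exact congrFun (hc b) a)
  set v : Fin 4 → F := M *ᵥ Pi.single c 1 with hv
  have hv0 : v ≠ 0 := by rwa [hv, Matrix.mulVec_single_one]
  have hg0 : (g 0 : M4) *ᵥ v = v := by
    rw [hv, Matrix.mulVec_mulVec, hM, ← mul_assoc, mul_add (g 0 : M4), mul_one, sq, add_comm (g 0 : M4) 1]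
  have hH' : H *ᵥ v = v := by
    rw [hv, Matrix.mulVec_mulVec, hM, ← mul_assoc, mul_add H, mul_one, ← h0H, ← one_add_mul, mul_assoc, mul_add H,
      mul_one, hHH, add_comm H 1]
  have h2v : (g 2 : M4) *ᵥ v = (-i) • ((g 1 : M4) *ᵥ v) := by
    have := congrArg ((g 1 : M4) *ᵥ ·) hH'
    rw [hH] at this
    simp only [Matrix.smul_mulVec, Matrix.mulVec_smul, Matrix.mulVec_mulVec, ← mul_assoc, sq, one_mul] at this
    rw [← this, smul_smul, neg_mul, hi, neg_neg, one_smul]
  clear_value v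
  set w : Fin 4 → (Fin 4 → F) :=
    ![v, (g 1 : M4) *ᵥ v, (g 3 : M4) *ᵥ v, (g 1 : M4) *ᵥ ((g 3 : M4) *ᵥ v)] with hw
  set Pm : M4 := Matrix.of fun a b => w b a with hPm
  have col : ∀ (A : M4) (T : M4), (∀ b, A *ᵥ w b = ∑ a, T a b • w a) → A * Pm = Pm * T := fun A T h => by
    ext a b
    have := congrFun (h b) a
    simp [Matrix.mulVec, dotProduct, Finset.sum_apply] at this
    simp [Matrix.mul_apply, hPm, mul_comm] at this ⊢
    exact this
  have e0 : (g 0 : M4) * Pm = Pm * !![1, 0, 0, 0; 0, -1, 0, 0; 0, 0, -1, 0; 0, 0, 0, 1] := col _ _ fun b => by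
    fin_cases b <;> simp [hw, Fin.sum_univ_four, Matrix.mulVec_mulVec, an 0 1, an 0 3, Matrix.neg_mulVec, hg0]
    · rw [← Matrix.mulVec_mulVec, hg0]
    · rw [← Matrix.mulVec_mulVec, hg0]
    · rw [← mul_assoc, an 0 1 (by decide), neg_mul, mul_assoc, an 0 3 (by decide), mul_neg, neg_neg, ← mul_assoc,
        ← Matrix.mulVec_mulVec, hg0]
  have e1 : (g 1 : M4) * Pm = Pm * !![0, 1, 0, 0; 1, 0, 0, 0; 0, 0, 0, 1; 0, 0, 1, 0] := col _ _ fun b => by
    fin_cases b <;> simp [hw, Fin.sum_univ_four, Matrix.mulVec_mulVec, ← mul_assoc, sq]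
  have e3 : (g 3 : M4) * Pm = Pm * !![0, 0, 1, 0; 0, 0, 0, -1; 1, 0, 0, 0; 0, -1, 0, 0] := col _ _ fun b => by
    fin_cases b <;> simp [hw, Fin.sum_univ_four, Matrix.mulVec_mulVec, ← mul_assoc, sq, an 3 1, Matrix.neg_mulVec]
    all_goals simp [mul_assoc, sq]
  have e2 : (g 2 : M4) * Pm = Pm * !![0, i, 0, 0; -i, 0, 0, 0; 0, 0, 0, i; 0, 0, -i, 0] := col _ _ fun b => by
    fin_cases b <;> simp [hw, Fin.sum_univ_four]
    · rw [h2v, neg_smul]
    · rw [an 2 1 (by decide), Matrix.neg_mulVec, ← Matrix.mulVec_mulVec, h2v, Matrix.mulVec_smul,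
        Matrix.mulVec_mulVec, sq, Matrix.one_mulVec, neg_smul, neg_neg]
    · rw [an 2 3 (by decide), Matrix.neg_mulVec, ← Matrix.mulVec_mulVec, h2v, Matrix.mulVec_smul,
        Matrix.mulVec_mulVec, an 3 1 (by decide), Matrix.neg_mulVec, neg_smul, smul_neg, neg_neg]
    · rw [← mul_assoc, an 2 1 (by decide), neg_mul, mul_assoc,
        an 2 3 (by decide), mul_neg, neg_neg, ← Matrix.mulVec_mulVec, ← Matrix.mulVec_mulVec, h2v, Matrix.mulVec_smul,
        Matrix.mulVec_smul]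
      simp only [Matrix.mulVec_mulVec]
      rw [an 3 1 (by decide), mul_neg, ← mul_assoc, sq, one_mul, Matrix.neg_mulVec, neg_smul, smul_neg, neg_neg]
  have hall : ∀ A : M4, ∃ T : M4, A * Pm = Pm * T := by
    intro A
    have hA : A ∈ Submodule.span F (Set.range fun e => (TwoSix.word g e : M4)) := S.span_top ▸ Submodule.mem_top
    have hl : ∀ e k, ∃ T : M4, (TwoSix.letter g e k : M4) * Pm = Pm * T := fun e k => by
      rw [TwoSix.letter]
      split_ifs
      · exact ⟨1, by simp⟩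
      · fin_cases k
        exacts [⟨_, e0⟩, ⟨_, e1⟩, ⟨_, e2⟩, ⟨_, e3⟩]
    induction hA using Submodule.span_induction with
    | mem x hx =>
      obtain ⟨e, rfl⟩ := hx
      obtain ⟨T0, h0⟩ := hl e 0; obtain ⟨T1, h1⟩ := hl e 1; obtain ⟨T2, h2⟩ := hl e 2; obtain ⟨T3, h3⟩ := hl e 3
      refine ⟨T0 * T1 * T2 * T3, ?_⟩
      show (TwoSix.word g e : M4) * Pm = _
      rw [TwoSix.word, Units.val_mul, Units.val_mul, Units.val_mul, mul_assoc, h3, ← mul_assoc,
        mul_assoc (_ * _) _ Pm, h2, ← mul_assoc, mul_assoc _ _ Pm, h1, ← mul_assoc, h0]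
      simp only [mul_assoc]
    | zero => exact ⟨0, by simp⟩
    | add x y _ _ hx hy =>
      obtain ⟨a, ha⟩ := hx; obtain ⟨b, hb⟩ := hy
      exact ⟨a + b, by rw [add_mul, mul_add, ha, hb]⟩
    | smul r x _ hx =>
      obtain ⟨a, ha⟩ := hx
      exact ⟨r • a, by rw [smul_mul_assoc, mul_smul_comm, ha]⟩
  have hsurj : Function.Surjective fun y => Pm *ᵥ y := fun y => by
    obtain ⟨j, hj⟩ := Function.ne_iff.mp hv0
    obtain ⟨T, hT⟩ := hall (Matrix.vecMulVec y (Pi.single j (v j)⁻¹))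
    refine ⟨T *ᵥ Pi.single 0 1, ?_⟩
    show Pm *ᵥ (T *ᵥ Pi.single 0 1) = y
    rw [Matrix.mulVec_mulVec, ← hT, ← Matrix.mulVec_mulVec, Matrix.mulVec_single_one,
      show Pm.col 0 = v from funext fun a => by simp [hPm, hw], Matrix.vecMulVec_mulVec]
    have hj' : v j ≠ 0 := hj
    funext a
    simp [hj']
  exact ⟨(Matrix.mulVec_surjective_iff_isUnit.mp hsurj).unit, e0, e1, e2, e3⟩

/-- Two frames are conjugate. -/
theorem frames_conj {R R' : Subgroup G4} {g g' : Fin 4 → G4} (S : TwoSix.Frame R g) (S' : TwoSix.Frame R' g') {i : F}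
    (hi : i * i = -1) : ∃ X : G4, ∀ k, X * g k * X⁻¹ = g' k := by
  obtain ⟨P, a0, a1, a2, a3⟩ := frame_basis S hi
  obtain ⟨P', b0, b1, b2, b3⟩ := frame_basis S' hi
  refine ⟨P' * P⁻¹, fun k => ?_⟩
  have key : ∀ T : M4, (g k : M4) * (P : M4) = (P : M4) * T → (g' k : M4) * (P' : M4) = (P' : M4) * T →
      P' * P⁻¹ * g k * (P' * P⁻¹)⁻¹ = g' k := fun T h h' => by
    rw [mul_inv_eq_iff_eq_mul]
    refine (mul_left_inj P).mp (Units.ext ?_)
    rw [show g' k * (P' * P⁻¹) * P = g' k * P' by group, show P' * P⁻¹ * g k * P = P' * P⁻¹ * (g k * P) by group,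
      Units.val_mul, Units.val_mul _ P, Units.val_mul, h, Units.val_mul, h', mul_assoc, ← mul_assoc _ (P : M4),
      ← Units.val_mul, inv_mul_cancel, Units.val_one, one_mul]
  fin_cases k
  exacts [key _ a0 b0, key _ a1 b1, key _ a2 b2, key _ a3 b3]

namespace Kl

variable (C : Kl F)

theorem D_zero_five : (C.D 0 5 : M4) = C.i • ((C.inv4 0 * C.inv4 1 * (C.inv4 2 * C.inv4 3) : G4) : M4) := by
  have hi := C.hi
  rw [Units.val_mul (C.inv4 0 * C.inv4 1), C.inv4_mul, C.inv4_mul]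
  simp only [D, C.L_val (show (e _ : V6) ⬝ᵥ e _ = (e _ : V6) ⬝ᵥ e _ by simp [e_dot_e])
    (show (e _ : V6) ⬝ᵥ e _ ≠ 0 by simp [e_dot_e])]
  ext a b
  fin_cases a <;> fin_cases b <;>
    simp [Lm, Xm, Xt, flip, e, Matrix.mul_apply, Fin.sum_univ_succ, dotProduct, Pi.single_apply] <;> grind

variable [Fintype F]

/-- The standard case. -/
theorem normaliser_maximal (hp : (Fintype.card F).Prime) (hodd : Odd (Fintype.card F)) (h7 : (7 : F) ≠ 0)
    (h3 : (3 : F) ≠ 0) (h2 : ∀ n : ℕ, n ≤ 6 → (n : F) = 2 → n = 2) {R : Subgroup G4}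
    (S : TwoSix.Frame R C.inv4) {ic : G4} (hic : ic ∈ R) (hiv : (ic : M4) = C.i • 1) :
    Cfsg.Geo.IsMaximalIn (Cfsg.Geo.specialLinear (Fin 4) F)
      (Cfsg.Geo.subgroupNormalizer R ⊓ Cfsg.Geo.specialLinear (Fin 4) F) := by
  classical
  have hsq : ic * ic = -1 := Units.ext (by
    rw [Units.val_mul, hiv, smul_mul_smul_comm, C.hi, one_mul, Units.val_neg, Units.val_one, neg_one_smul])
  have hneg : (-1 : G4) ∈ R := hsq ▸ R.mul_mem hic hic
  have hnm : ∀ {x : G4}, x ∈ R → -x ∈ R := fun {x} hx => by simpa using R.mul_mem hneg hx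
  have hD0' : ∀ k : Fin 4, C.D 0 (![1, 2, 3, 4] k) ∈ R := fun k => by
    have : C.D 0 (![1, 2, 3, 4] k) = ic⁻¹ * C.inv4 k := by
      rw [eq_inv_mul_iff_mul_eq]
      exact Units.ext (by rw [Units.val_mul, hiv, C.inv4_val, smul_mul_assoc, one_mul])
    exact this ▸ R.mul_mem (R.inv_mem hic) (S.mem k)
  have hD0 : ∀ k, C.D 0 k ∈ R := by
    intro k
    obtain rfl | rfl | rfl | rfl | rfl | rfl : k = 0 ∨ k = 1 ∨ k = 2 ∨ k = 3 ∨ k = 4 ∨ k = 5 := by
      revert k; decide
    · rw [D, C.L_self (by simp [e_dot_e])]; exact R.one_mem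
    · exact hD0' 0
    · exact hD0' 1
    · exact hD0' 2
    · exact hD0' 3
    · have : C.D 0 5 = ic * (C.inv4 0 * C.inv4 1 * (C.inv4 2 * C.inv4 3)) :=
        Units.ext (by rw [Units.val_mul, hiv, smul_mul_assoc, one_mul, C.D_zero_five])
      exact this ▸ R.mul_mem hic (R.mul_mem (R.mul_mem (S.mem 0) (S.mem 1)) (R.mul_mem (S.mem 2) (S.mem 3)))
  have hD : ∀ a b, C.D a b ∈ R := fun a b => by
    have : C.D a b = (C.D 0 a)⁻¹ * C.D 0 b := by
      rw [D, D, D, C.L_inv (by simp [e_dot_e]) (by simp [e_dot_e]),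
        C.L_mul (by simp [e_dot_e]) (by simp [e_dot_e]) (by simp [e_dot_e])]
    exact this ▸ R.mul_mem (R.inv_mem (hD0 a)) (hD0 b)
  have hnorm : ∀ g : G4, (g : M4).det = 1 → C.Mono g → g ∈ Cfsg.Geo.subgroupNormalizer R := by
    intro g hd hm
    obtain ⟨π, ε, hε, hπ⟩ := IsMono.perm hm (C.act_orth hd)
    have hDc : ∀ a b, g * C.D a b * g⁻¹ ∈ R := fun a b => by
      rw [D, C.L_conj hd (by simp [e_dot_e]) (by simp [e_dot_e]), hπ, hπ]
      rcases mul_self_eq_one_iff.mp (hε a) with h | h <;> rcases mul_self_eq_one_iff.mp (hε b) with h' | h' <;>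
        simp only [h, h', one_smul, neg_one_smul]
      · exact hD _ _
      · rw [C.L_neg_right (by simp [e_dot_e]) (by simp [e_dot_e])]; exact hnm (hD _ _)
      · rw [C.L_neg_left (by simp [e_dot_e]) (by simp [e_dot_e])]; exact hnm (hD _ _)
      · rw [C.L_neg_left (by simp [e_dot_e]) (by simp [e_dot_e]), C.L_neg_right (by simp [e_dot_e]) (by simp [e_dot_e]),
          neg_neg]
        exact hD _ _
    have ha : ∀ k, g * C.inv4 k * g⁻¹ ∈ R := fun k => by
      have hcom : g * ic = ic * g := ((TwoSix.scalar_commute hiv g).eq).symm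
      rw [show C.inv4 k = ic * C.D 0 (![1, 2, 3, 4] k) from Units.ext (by
          rw [Units.val_mul, hiv, C.inv4_val, smul_mul_assoc, one_mul]),
        ← mul_assoc g, hcom, mul_assoc ic g, mul_assoc ic]
      exact R.mul_mem hic (hDc _ _)
    have hl : ∀ f k, g * TwoSix.letter C.inv4 f k * g⁻¹ ∈ R := fun f k => by
      rw [TwoSix.letter]
      split_ifs
      · rw [mul_one, mul_inv_cancel]; exact R.one_mem
      · exact ha k
    refine TwoSix.mem_normalizer fun x hx => ?_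
    obtain ⟨f, t, ht⟩ := S.describe hx
    set z := x * (TwoSix.word C.inv4 f)⁻¹ with hz
    have hzR : z ∈ R := R.mul_mem hx (R.inv_mem (S.word_mem f))
    have hzs : (z : M4) = t • 1 := by rw [hz, Units.val_mul, ht, smul_mul_assoc, Units.mul_inv]
    rw [show x = z * TwoSix.word C.inv4 f by rw [hz, inv_mul_cancel_right],
      show g * (z * TwoSix.word C.inv4 f) * g⁻¹ = z * (g * TwoSix.word C.inv4 f * g⁻¹) by
        rw [← mul_assoc g, ← (TwoSix.scalar_commute hzs g).eq]; group]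
    refine R.mul_mem hzR ?_
    have := R.mul_mem (R.mul_mem (R.mul_mem (hl f 0) (hl f 1)) (hl f 2)) (hl f 3)
    rwa [show ∀ p q r s : G4, g * p * g⁻¹ * (g * q * g⁻¹) * (g * r * g⁻¹) * (g * s * g⁻¹) = g * (p * q * r * s) * g⁻¹
      from fun p q r s => by group] at this
  have hdiag : ∀ x ∈ R, IsDiagonal (C.act (x : M4)) := fun x hx => by
    obtain ⟨f, t, ht⟩ := S.describe hx
    rw [ht, C.act_smul]
    refine IsDiagonal.smul ?_ _
    have hl : ∀ k, IsDiagonal (C.act (TwoSix.letter C.inv4 f k : M4)) := fun k => by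
      rw [TwoSix.letter]
      split_ifs
      · rw [Units.val_one, C.act_one]; exact isDiagonal_one
      · exact C.inv4_diag k
    rw [TwoSix.word, C.act_val_mul, C.act_val_mul, C.act_val_mul]
    exact (((hl 0).mul (hl 1)).mul (hl 2)).mul (hl 3)
  refine ⟨lt_of_le_of_ne inf_le_right fun heq => ?_, fun M hNM hM => ?_⟩
  · set u := (e 0 : V6) + e 1 + e 2 with hu
    set v := (e 3 : V6) + e 4 + e 5 with hv
    have huu : u ⬝ᵥ u = 3 := by simp [hu, dotProduct, Fin.sum_univ_succ, e, Pi.single_apply]; norm_num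
    have hvv : v ⬝ᵥ v = 3 := by simp [hv, dotProduct, Fin.sum_univ_succ, e, Pi.single_apply]; norm_num
    have hmem : C.L u v ∈ Cfsg.Geo.subgroupNormalizer R :=
      (heq.symm ▸ (TensorMax.mem_specialLinear _).mpr (C.L_det u v) :
        C.L u v ∈ Cfsg.Geo.subgroupNormalizer R ⊓ Cfsg.Geo.specialLinear (Fin 4) F).1
    have hd := hdiag _ ((Subgroup.mem_normalizer_iff.mp hmem _).mp (hD 0 3))
    rw [conj_D (C.L_det u v), C.act_L (huu.trans hvv.symm) (by rw [huu]; exact h3)] at hd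
    have h := hd.off (p := 1) (q := 2) (by decide)
    have ew : (refl u * refl v) *ᵥ (e 0 : V6) = e 0 - (2 / 3 : F) • u := by
      rw [← Matrix.mulVec_mulVec, refl_fix (show v ⬝ᵥ e 0 = 0 by rw [dot_e]; simp [hv, e]), refl_mulVec, huu, dot_e]
      simp [hu, e]
    have ew' : (refl u * refl v) *ᵥ (e 3 : V6) = e 3 - (2 / 3 : F) • v := by
      rw [← Matrix.mulVec_mulVec, refl_mulVec v, hvv, dot_e, show v 3 = 1 by simp [hv, e], mul_one,
        refl_fix (show u ⬝ᵥ ((e 3 : V6) - (2 / 3 : F) • v) = 0 by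
          simp [hu, hv, dotProduct, Fin.sum_univ_succ, e, Pi.single_apply])]
    rw [ew, ew', ← Matrix.mulVec_mulVec, refl_fix (show ((e 3 : V6) - (2 / 3 : F) • v) ⬝ᵥ e 1 = 0 by
        rw [dot_e]; simp [hv, e]), refl_mulVec, dot_e] at h
    have hww : ((e 0 : V6) - (2 / 3 : F) • u) ⬝ᵥ (e 0 - (2 / 3 : F) • u) = 1 := by
      simp [hu, dotProduct, Fin.sum_univ_succ, e, Pi.single_apply]; field_simp; ring
    rw [hww] at h
    simp [hu, e] at h
    exact absurd h (by simp [C.two, h3])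
  · by_cases hE : M = Cfsg.Geo.specialLinear (Fin 4) F
    · exact Or.inr hE
    left
    have hG : Over C M :=
      { det := fun g hg => (TensorMax.mem_specialLinear g).mp (hM hg)
        mono := fun g hd hm => hNM ⟨hnorm g hd hm, (TensorMax.mem_specialLinear g).mpr hd⟩
        proper := by
          by_contra hc
          push Not at hc
          exact hE (le_antisymm hM fun g hg => hc g ((TensorMax.mem_specialLinear g).mp hg)) }
    refine le_antisymm (fun g hg => ?_) hNM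
    exact ⟨hnorm g (hG.det g hg) (mono_of_over hp hodd hG h7 h3 h2 hg), hM hg⟩

end Kl

/-- An absolutely irreducible group of symplectic type in dimension four with centre of order four has order at
least 32. -/
theorem card_ge [Fintype F] {R : Subgroup G4} (h2 : (2 : F) ≠ 0) {i : F} (hi : i * i = -1)
    (hR : Cfsg.Geo.IsSymplecticTypeGroup 2 R) (hirr : Cfsg.Geo.ActsAbsolutelyIrreducibly (Cfsg.Geo.matrixSet R))
    (hZ : Nat.card (Subgroup.center R) = 4) : 17 ≤ Nat.card R := by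
  classical
  by_contra hlt
  have hsig := TwoSix.signed_of_type h2 (by simp) hR hirr
  have he : ∀ x ∈ R, x ^ 4 = 1 := fun x hx => congrArg Subtype.val (TwoSix.four_of_exponent hR ⟨x, hx⟩)
  have hpart : ∀ a ∈ R, (∀ s : F, (a : M4) ≠ s • 1) → ∃ b ∈ R, TwoSix.Sg 1 (a : M4) (b : M4) := by
    intro a ha hns
    by_contra hcon
    push Not at hcon
    obtain ⟨s, hs⟩ := hirr.2 (a : M4) (by
      rintro _ ⟨y, hy, rfl⟩
      obtain ⟨t, ht⟩ := hsig a ha y hy
      rcases TwoSix.zmod2_cases t with rfl | rfl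
      · exact TwoSix.Sg.comm.mp ht
      · exact absurd ht (hcon y hy))
    exact hns s hs
  obtain ⟨a, ha, hans⟩ : ∃ a ∈ R, ∀ s : F, (a : M4) ≠ s • 1 := by
    by_contra hcon
    push Not at hcon
    obtain ⟨s, hs⟩ := hirr.2 (Matrix.single 0 1 1) (by
      rintro _ ⟨y, hy, rfl⟩
      obtain ⟨t, ht⟩ := hcon y hy
      simp only [ht, mul_smul_comm, smul_mul_assoc, mul_one, one_mul])
    have := congrFun (congrFun hs 0) 1
    simp at this
  obtain ⟨b, hb, hab⟩ := hpart a ha hans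
  let f : ZMod 2 × ZMod 2 → R := fun t =>
    (if t.1 = 0 then 1 else ⟨a, ha⟩) * (if t.2 = 0 then 1 else ⟨b, hb⟩)
  have hsa : ∀ t, TwoSix.Sg t.2 (a : M4) ((f t : G4) : M4) := fun t => by
    show TwoSix.Sg t.2 (a : M4) (((_ : R) * _ : R) : G4).val
    rw [Subgroup.coe_mul, Units.val_mul, show t.2 = 0 + t.2 from (zero_add _).symm]
    refine TwoSix.Sg.mul_right ?_ ?_
    · split_ifs <;> simp [TwoSix.Sg.refl, TwoSix.Sg.one_right]
    · rcases TwoSix.zmod2_cases t.2 with h | h <;> simp [h, hab, TwoSix.Sg.one_right]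
  have hsb : ∀ t, TwoSix.Sg t.1 (b : M4) ((f t : G4) : M4) := fun t => by
    show TwoSix.Sg t.1 (b : M4) (((_ : R) * _ : R) : G4).val
    rw [Subgroup.coe_mul, Units.val_mul, show t.1 = t.1 + 0 from (add_zero _).symm]
    refine TwoSix.Sg.mul_right ?_ ?_
    · rcases TwoSix.zmod2_cases t.1 with h | h <;> simp [h, hab.symm, TwoSix.Sg.one_right]
    · split_ifs <;> simp [TwoSix.Sg.refl, TwoSix.Sg.one_right]
  let q : ZMod 2 × ZMod 2 → R ⧸ Subgroup.center R := fun t => QuotientGroup.mk (f t)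
  have hq : Function.Injective q := fun s t hst => by
    obtain ⟨z, hz, hzz⟩ : ∃ z ∈ Subgroup.center R, f t = f s * z :=
      ⟨(f s)⁻¹ * f t, QuotientGroup.eq.mp hst, by group⟩
    obtain ⟨c, hc⟩ := TwoSix.scalar_of_central hirr hz
    have hcc : ∀ A : M4, TwoSix.Sg 0 A ((z : G4) : M4) := fun A =>
      TwoSix.Sg.comm.mpr (by rw [hc, mul_smul_comm, smul_mul_assoc, mul_one, one_mul])
    have e1 : TwoSix.Sg s.2 (a : M4) ((f t : G4) : M4) := by
      rw [hzz, Subgroup.coe_mul, Units.val_mul]; simpa using (hsa s).mul_right (hcc _)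
    have e2 : TwoSix.Sg s.1 (b : M4) ((f t : G4) : M4) := by
      rw [hzz, Subgroup.coe_mul, Units.val_mul]; simpa using (hsb s).mul_right (hcc _)
    exact Prod.ext (TwoSix.Sg.unique h2 e2 (hsb t)) (TwoSix.Sg.unique h2 e1 (hsa t))
  have hq' : Function.Surjective q := by
    refine (Nat.bijective_iff_injective_and_card q).mpr ⟨hq, ?_⟩ |>.2
    have h := Subgroup.card_eq_card_quotient_mul_card_subgroup (Subgroup.center R)
    have h4 := Nat.card_le_card_of_injective q hq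
    rw [hZ] at h
    rw [Nat.card_prod, Nat.card_zmod] at h4 ⊢
    omega
  obtain ⟨μ, hμ⟩ : ∃ μ : F, (a : M4) * (a : M4) = (μ * μ) • 1 := by
    rcases TwoSix.sq_sign (by simp) hsig hirr he ha with h | h
    · exact ⟨1, by rw [h, one_mul, one_smul]⟩
    · exact ⟨i, by rw [h, hi, neg_one_smul]⟩
  have hne : (a : M4) + μ • (1 : M4) ≠ 0 := fun h =>
    hans (-μ) (by rw [neg_smul]; exact eq_neg_of_add_eq_zero_left h)
  obtain ⟨c, hc⟩ : ∃ c, ((a : M4) + μ • (1 : M4)) *ᵥ Pi.single c 1 ≠ 0 := by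
    by_contra hc
    push Not at hc
    exact hne (by ext x y; simpa using congrFun (hc y) x)
  set v := ((a : M4) + μ • (1 : M4)) *ᵥ Pi.single c 1 with hv
  have hav : (a : M4) *ᵥ v = μ • v := by
    rw [hv, Matrix.mulVec_mulVec, mul_add, hμ, mul_smul_comm, mul_one, ← Matrix.smul_mulVec, smul_add, smul_smul,
      add_comm]
  set w := (b : M4) *ᵥ v with hw
  have haw : (a : M4) *ᵥ w = (-μ) • w := by
    rw [hw, Matrix.mulVec_mulVec, TwoSix.Sg.anti.mp hab, Matrix.neg_mulVec, ← Matrix.mulVec_mulVec, hav,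
      Matrix.mulVec_smul, neg_smul]
  obtain ⟨δ, hbw⟩ : ∃ δ : F, (b : M4) *ᵥ w = δ • v := by
    rcases TwoSix.sq_sign (by simp) hsig hirr he hb with h | h
    · exact ⟨1, by rw [hw, Matrix.mulVec_mulVec, h, Matrix.one_mulVec, one_smul]⟩
    · exact ⟨-1, by rw [hw, Matrix.mulVec_mulVec, h, Matrix.neg_mulVec, Matrix.one_mulVec, neg_one_smul]⟩
  set W : Submodule F (Fin 4 → F) := Submodule.span F {v, w} with hW
  have hstab : ∀ (A : M4) (y : Fin 4 → F) (y' : Fin 4 → F), A *ᵥ v = y → A *ᵥ w = y' → y ∈ W → y' ∈ W →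
      ∀ x ∈ W, A *ᵥ x ∈ W := by
    intro A y y' h1 h2 hy hy' x hx
    obtain ⟨r, s, rfl⟩ := Submodule.mem_span_pair.mp hx
    rw [Matrix.mulVec_add, Matrix.mulVec_smul, Matrix.mulVec_smul, h1, h2]
    exact W.add_mem (W.smul_mem r hy) (W.smul_mem s hy')
  have hvW : v ∈ W := Submodule.subset_span (by simp)
  have hwW : w ∈ W := Submodule.subset_span (by simp)
  have hA := hstab _ _ _ hav haw (W.smul_mem μ hvW) (W.smul_mem (-μ) hwW)
  have hB := hstab _ _ _ hw.symm hbw hwW (W.smul_mem δ hvW)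
  rcases hirr.1 W (by
    rintro _ ⟨y, hy, rfl⟩ _ ⟨x, hx, rfl⟩
    rw [Matrix.toLin'_apply]
    show (y : M4) *ᵥ x ∈ W
    obtain ⟨t, ht⟩ := hq' (QuotientGroup.mk (⟨y, hy⟩ : R))
    obtain ⟨z, hz, hzz⟩ : ∃ z ∈ Subgroup.center R, (⟨y, hy⟩ : R) = f t * z :=
      ⟨(f t)⁻¹ * ⟨y, hy⟩, QuotientGroup.eq.mp ht, by group⟩
    obtain ⟨k, hk⟩ := TwoSix.scalar_of_central hirr hz
    have e1 := congrArg (fun r : R => ((r : G4) : M4)) hzz
    simp only [f, Subgroup.coe_mul, Units.val_mul, hk, mul_smul_comm, mul_one] at e1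
    rw [e1, Matrix.smul_mulVec, ← Matrix.mulVec_mulVec]
    refine W.smul_mem k ?_
    by_cases h1 : t.1 = 0 <;> by_cases h2' : t.2 = 0 <;> simp [h1, h2']
    · exact hx
    · exact hB x hx
    · exact hA x hx
    · simpa [← Matrix.mulVec_mulVec] using hA _ (hB x hx)) with hbot | htop
  · exact hc (by simpa [hbot] using hvW)
  · have h1 : Module.finrank F W ≤ 2 := (finrank_span_le_card ({v, w} : Set (Fin 4 → F))).trans (by
      simp only [Set.toFinset_insert, Set.toFinset_singleton]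
      exact Finset.card_le_two)
    rw [htop, finrank_top, Module.finrank_fin_fun] at h1
    omega

/-- The class-six member of the list for `SL₄(p)`. -/
theorem sl_four_symplectic_type {F : Type u} [Field F] [Fintype F] (p : ℕ) (R : Subgroup (GL (Fin 4) F))
    (hp : p.Prime) (hF : Fintype.card F = p) (hmod : p % 4 = 1) (hR : Cfsg.Geo.IsLinearSymplecticTypeData 2 R) :
    Cfsg.Geo.IsMaximalIn (Cfsg.Geo.specialLinear (Fin 4) F)
      (Cfsg.Geo.subgroupNormalizer R ⊓ Cfsg.Geo.specialLinear (Fin 4) F) := by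
  classical
  haveI : Fact p.Prime := ⟨hp⟩
  haveI : CharP F p := charP_of_card_eq_prime hF
  have hpc : (Fintype.card F).Prime := hF.symm ▸ hp
  have hp5 : 5 ≤ p := by have := hp.two_le; omega
  have hcast : ∀ a : ℕ, (a : F) = 0 ↔ p ∣ a := CharP.cast_eq_zero_iff F p
  have hdvd : ∀ a : ℕ, 0 < a → a < p → (a : F) ≠ 0 := fun a h0 hlt h =>
    absurd (Nat.le_of_dvd h0 ((hcast a).mp h)) (by omega)
  have h2 : (2 : F) ≠ 0 := by simpa using hdvd 2 (by norm_num) (by omega)
  have h3 : (3 : F) ≠ 0 := by simpa using hdvd 3 (by norm_num) (by omega)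
  have h7 : (7 : F) ≠ 0 := fun h => by
    have := (hcast 7).mp (by simpa using h)
    rcases (Nat.dvd_prime (by norm_num : (7 : ℕ).Prime)).mp this with h | h <;> omega
  have hodd : Odd (Fintype.card F) := by rw [hF]; exact Nat.odd_iff.mpr (by omega)
  obtain ⟨_, e₀, -, -, hcases⟩ := hR.field
  obtain ⟨hZ, m, hm⟩ : Nat.card (Subgroup.center R) = 4 ∧ ∃ m : ℕ, Nat.card R = 2 ^ (2 + 2 * m) := by
    rcases hcases with ⟨h, -⟩ | ⟨-, -, hZ, -, hm⟩ | ⟨-, -, h, -⟩
    · exact absurd h (by decide)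
    · exact ⟨hZ, hm⟩
    · simp at h
  have hsqm : IsSquare (-1 : F) := FiniteField.isSquare_neg_one_iff.mpr (by omega)
  obtain ⟨i₀, hi₀⟩ := hsqm
  have h17 := card_ge h2 hi₀.symm hR.symplecticType hR.absIrred hZ
  have h32 : 32 ≤ Nat.card R := by
    rw [hm] at h17 ⊢
    by_contra hlt
    have : 2 + 2 * m < 5 := (Nat.pow_lt_pow_iff_right (a := 2) (by norm_num)).mp (by norm_num; omega)
    have : 2 + 2 * m ≤ 4 := by omega
    have := Nat.pow_le_pow_right (show 0 < 2 by norm_num) this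
    omega
  obtain ⟨g, ic, i, S, hicR, hiv, hi⟩ :=
    TwoSix.frame_of_i' (Fintype.card_fin 4) h2 hR.symplecticType hR.absIrred h32 hZ
  let C : Kl F := ⟨i, hi, h2⟩
  obtain ⟨X, hX⟩ := frames_conj S C.inv4_frame hi
  set φ : GL (Fin 4) F ≃* GL (Fin 4) F := MulAut.conj X with hφ
  have hφv : ∀ x, φ x = X * x * X⁻¹ := fun x => rfl
  have hφm : ∀ x : GL (Fin 4) F, ((φ x : GL (Fin 4) F) : Matrix (Fin 4) (Fin 4) F) =
      (X : Matrix (Fin 4) (Fin 4) F) * x * ((X⁻¹ : GL (Fin 4) F) : Matrix (Fin 4) (Fin 4) F) := fun x => by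
    rw [hφv, Units.val_mul, Units.val_mul]
  have hic' : φ ic = ic := by rw [hφv, ← (TwoSix.scalar_commute hiv X).eq, mul_inv_cancel_right]
  have S' : TwoSix.Frame (R.map φ.toMonoidHom) C.inv4 :=
    { card_eq := by simp
      two := h2
      signed := by
        rintro _ ⟨x, hx, rfl⟩ _ ⟨y, hy, rfl⟩
        obtain ⟨t, ht⟩ := S.signed x hx y hy
        refine ⟨t, ?_⟩
        show TwoSix.Sg t ((φ x : GL (Fin 4) F) : Matrix (Fin 4) (Fin 4) F) _
        show _ * ((φ y : GL (Fin 4) F) : Matrix (Fin 4) (Fin 4) F) = _ • (((φ y : GL (Fin 4) F) : Matrix (Fin 4) (Fin 4) F) * _)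
        rw [← Units.val_mul, ← Units.val_mul, ← map_mul, ← map_mul, hφm, hφm, Units.val_mul, Units.val_mul, ht,
          mul_smul_comm, smul_mul_assoc]
      mem := fun k => ⟨g k, S.mem k, (hφv (g k)).trans (hX k)⟩
      sq := C.inv4_sq
      anti := C.inv4_anti }
  have h6 : ∀ n : ℕ, n ≤ 6 → (n : F) = 2 → n = 2 := fun n hn h => by
    rw [show (2 : F) = ((2 : ℕ) : F) by norm_num, CharP.natCast_eq_natCast F p] at h
    rcases Nat.lt_or_ge n p with h' | h'
    · exact Nat.ModEq.eq_of_lt_of_lt h h' (by omega)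
    · have e : n = p ∨ n = p + 1 := by omega
      unfold Nat.ModEq at h
      rw [Nat.mod_eq_of_lt (show 2 < p by omega)] at h
      rcases e with rfl | rfl
      · simp at h
      · rw [Nat.add_mod_left, Nat.mod_eq_of_lt (show 1 < p by omega)] at h; omega
  have hmax := C.normaliser_maximal hpc hodd h7 h3 h6 S' (ic := ic) ⟨ic, hicR, hic'⟩ hiv
  have hmap := TensorMax.isMaximalIn_map φ.symm hmax
  have hSL : (Cfsg.Geo.specialLinear (Fin 4) F).map φ.symm.toMonoidHom = Cfsg.Geo.specialLinear (Fin 4) F := by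
    refine le_antisymm ?_ fun x hx => ⟨φ x, ?_, φ.symm_apply_apply x⟩
    · rintro _ ⟨x, hx, rfl⟩
      simp only [MulEquiv.coe_toMonoidHom, hφ, MulAut.conj_symm_apply]
      have := (MonoidHom.normal_ker (Matrix.GeneralLinearGroup.det (n := Fin 4) (R := F))).conj_mem x hx X⁻¹
      rwa [inv_inv] at this
    · exact (MonoidHom.normal_ker (Matrix.GeneralLinearGroup.det (n := Fin 4) (R := F))).conj_mem x hx X
  have hN : (Cfsg.Geo.subgroupNormalizer (R.map φ.toMonoidHom)).map φ.symm.toMonoidHom =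
      Cfsg.Geo.subgroupNormalizer R := by
    rw [Cfsg.Geo.subgroupNormalizer, Cfsg.Geo.subgroupNormalizer, Subgroup.map_equiv_normalizer_eq, Subgroup.map_map]
    congr 2
    ext x
    simp
  rwa [Subgroup.map_inf _ _ _ φ.symm.injective, hSL, hN] at hmap

end Cfsg.Lib.Classical.KleinSix
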